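import Mathlib
import Cfsg.Agent.Suz.SolA
import Cfsg.Agent.Suz.HigAbel
import Cfsg.Agent.Suz.OneClassA

/-! Suzuki `2`-groups with a solvable group of automorphisms, part 2: the set-up, invariant abelian
subgroups and their covers. -/

set_option autoImplicit false
set_option linter.style.haveILetI false
set_option linter.unusedSectionVars false

namespace Cfsg.Agent.Suz.Sol

open FM Hig
open scoped commutatorElement

/-- A `2`-group with central involutions, permuted transitively by a group of automorphisms acting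
semilinearly on the group `Z0 ≅ F` they form. -/
structure St (G F : Type*) [Group G] [Field F] [Fintype F] where
  Y : Subgroup (MulAut G)
  a : MulAut G → F
  σ : MulAut G → F ≃+* F
  ψ : G → F
  ξ : MulAut G
  Z0 : Subgroup G
  pgroup : IsPGroup 2 G
  two_lt : 2 < Fintype.card F
  central : ∀ z : G, z * z = 1 → ∀ g, z * g = g * z
  mem_Z0 : ∀ x, x ∈ Z0 ↔ x * x = 1
  quot : IsQuot Z0 ⊥ ψ
  equiv : ∀ y ∈ Y, ∀ x ∈ Z0, ψ (y x) = a y * σ y (ψ x)
  trans : ∀ u v : F, u ≠ 0 → v ≠ 0 → ∃ y ∈ Y, a y * σ y u = v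
  ξ_mem : ξ ∈ Y
  σ_ξ : ∀ x, σ ξ x = x
  p3 : P3 (a ξ)

variable {G F : Type*} [Group G] [Field F] [Fintype F] (S : St G F)

namespace St

/-- Invariance under `Y`. -/
def I (H : Subgroup G) : Prop := ∀ y ∈ S.Y, Inv y H

/-- The action on `F`. -/
def act (y : MulAut G) (u : F) : F := S.a y * S.σ y u

/-- `φ` identifies `H / N` with the module `F`. -/
structure Crd (H N : Subgroup G) (φ : G → F) : Prop extends IsQuot H N φ where
  inv : S.I H
  equiv : ∀ y ∈ S.Y, ∀ x ∈ H, φ (y x) = S.act y (φ x)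

/-- `C` is a minimal invariant subgroup over `A`, central and elementary modulo `A`. -/
structure Cov (A C : Subgroup G) : Prop where
  lt : A < C
  inv : S.I C
  comm : ∀ g : G, ∀ x ∈ C, ⁅g, x⁆ ∈ A
  sq : ∀ x ∈ C, x * x ∈ A
  min : ∀ B, S.I B → A ≤ B → B ≤ C → B = A ∨ B = C

variable {S}

theorem I.inf {H K : Subgroup G} (h : S.I H) (k : S.I K) : S.I (H ⊓ K) :=
  fun y hy => (h y hy).inf (k y hy)

theorem I.commutator {H K : Subgroup G} (h : S.I H) (k : S.I K) : S.I ⁅H, K⁆ :=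
  fun y hy => (h y hy).commutator (k y hy)

theorem I.sq {H : Subgroup G} (h : S.I H) : S.I (sq H) := fun y hy => (h y hy).sq

theorem I.centralizer [Finite G] {H : Subgroup G} (h : S.I H) :
    S.I (Subgroup.centralizer (H : Set G)) := fun y hy => (h y hy).centralizer

theorem I.mem_iff {H : Subgroup G} (h : S.I H) {y : MulAut G} (hy : y ∈ S.Y) {x : G} :
    y x ∈ H ↔ x ∈ H :=
  ⟨fun hx => by simpa using h _ (S.Y.inv_mem hy) _ hx, h y hy x⟩

theorem Crd.lt {H N : Subgroup G} {φ : G → F} (h : S.Crd H N φ) : N < H := by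
  refine lt_of_le_of_ne h.le fun e => ?_
  obtain ⟨x, hx, e'⟩ := h.surj 1
  rw [h.map_of_mem (e ▸ hx)] at e'
  exact zero_ne_one e'

theorem Crd.map_inv [CharP F 2] {H N : Subgroup G} {φ : G → F} (h : S.Crd H N φ) {x : G}
    (hx : x ∈ H) : φ x⁻¹ = φ x := by rw [h.map_inv' hx, CharTwo.neg_eq]

theorem Crd.sq_mem [CharP F 2] {H N : Subgroup G} {φ : G → F} (h : S.Crd H N φ) {x : G}
    (hx : x ∈ H) : x * x ∈ N := by
  rw [← h.eq_zero _ (H.mul_mem hx hx), h.map_mul x hx x hx, CharTwo.add_self_eq_zero]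

theorem Crd.equiv_ξ {H N : Subgroup G} {φ : G → F} (h : S.Crd H N φ) {x : G}
    (hx : x ∈ H) : φ (S.ξ x) = S.a S.ξ * φ x := by
  rw [h.equiv _ S.ξ_mem x hx, act, S.σ_ξ]

variable (S)

theorem I_top : S.I ⊤ := fun _ _ => inv_top

theorem I_bot : S.I ⊥ := fun _ _ => inv_bot

theorem I_center : S.I (Subgroup.center G) := fun _ _ => inv_center

theorem Z0_le_center : S.Z0 ≤ Subgroup.center G :=
  fun x hx => Subgroup.mem_center_iff.2 fun g => (S.central x ((S.mem_Z0 x).1 hx) g).symm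

theorem comm_Z0 {z : G} (hz : z ∈ S.Z0) (g : G) : z * g = g * z :=
  S.central z ((S.mem_Z0 z).1 hz) g

theorem commutator_eq_one {z : G} (hz : z ∈ S.Z0) (g : G) : ⁅g, z⁆ = 1 :=
  commutatorElement_eq_one_iff_mul_comm.2 (S.comm_Z0 hz g).symm

theorem conj_eq {z : G} (hz : z ∈ S.Z0) (g : G) : g * z * g⁻¹ = z := by
  rw [← S.comm_Z0 hz g, mul_inv_cancel_right]

instance Z0_normal : S.Z0.Normal := ⟨fun x hx g => by rw [S.conj_eq hx]; exact hx⟩

theorem Z0_inv : S.I S.Z0 := fun y _ x hx => by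
  rw [S.mem_Z0, ← map_mul, (S.mem_Z0 x).1 hx, map_one]

theorem Z0_ab : Ab S.Z0 := fun _ hx y _ => S.comm_Z0 hx y

theorem crd_Z0 : S.Crd S.Z0 ⊥ S.ψ := ⟨S.quot, S.Z0_inv, S.equiv⟩

theorem act_mul {y y' : MulAut G} (hy : y ∈ S.Y) (hy' : y' ∈ S.Y) (u : F) :
    S.act (y * y') u = S.act y (S.act y' u) := by
  obtain ⟨x, hx, rfl⟩ := S.quot.surj u
  rw [← S.crd_Z0.equiv _ (S.Y.mul_mem hy hy') x hx, ← S.crd_Z0.equiv _ hy' x hx,
    ← S.crd_Z0.equiv _ hy _ (S.Z0_inv _ hy' x hx), MulAut.mul_apply]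

theorem act_one (u : F) : S.act 1 u = u := by
  obtain ⟨x, hx, rfl⟩ := S.quot.surj u
  rw [← S.crd_Z0.equiv _ S.Y.one_mem x hx, MulAut.one_apply]

theorem act_zero (y : MulAut G) : S.act y 0 = 0 := by simp [act]

theorem act_surj {y : MulAut G} (hy : y ∈ S.Y) (u : F) : ∃ w, S.act y w = u :=
  ⟨S.act y⁻¹ u, by rw [← S.act_mul hy (S.Y.inv_mem hy), mul_inv_cancel, act_one]⟩

theorem act_ξ_pow (i : ℕ) (u : F) : S.act (S.ξ ^ i) u = S.a S.ξ ^ i * u := by
  induction i with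
  | zero => rw [pow_zero, act_one, pow_zero, one_mul]
  | succ i ih =>
    rw [pow_succ', S.act_mul S.ξ_mem (S.Y.pow_mem S.ξ_mem i), ih, act, S.σ_ξ]; ring

theorem trans' {x z : G} (hx : x ∈ S.Z0) (hx1 : x ≠ 1) (hz : z ∈ S.Z0) (hz1 : z ≠ 1) :
    ∃ y ∈ S.Y, y x = z := by
  obtain ⟨y, hy, e⟩ := S.trans (S.ψ x) (S.ψ z)
    (fun e => hx1 (by simpa using (S.quot.eq_zero x hx).1 e))
    (fun e => hz1 (by simpa using (S.quot.eq_zero z hz).1 e))
  refine ⟨y, hy, ?_⟩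
  rw [← S.equiv y hy x hx, S.quot.eq_iff (S.Z0_inv y hy x hx) hz, Subgroup.mem_bot] at e
  exact inv_mul_eq_one.1 e

theorem eq_one_of_fixed {z : G} (hz : z ∈ S.Z0) (h : ∀ y ∈ S.Y, y z = z) : z = 1 := by
  by_contra h1
  obtain ⟨v, hv0, hv1⟩ := exists_ne_zero_ne_one' S.two_lt
  have h0 : S.ψ z ≠ 0 := fun e => h1 (by simpa using (S.quot.eq_zero z hz).1 e)
  obtain ⟨y, hy, e⟩ := S.trans (S.ψ z) (v * S.ψ z) h0 (mul_ne_zero hv0 h0)
  rw [← S.equiv y hy z hz, h y hy] at e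
  exact hv1 (mul_right_cancel₀ h0 (e.symm.trans (one_mul _).symm))

theorem Z0_le {H : Subgroup G} (hH : S.I H) (h : H ≠ ⊥) : S.Z0 ≤ H := by
  obtain ⟨⟨x, hx⟩, hx1⟩ := Subgroup.ne_bot_iff_exists_ne_one.1 h
  obtain ⟨k, h1, h2⟩ := Grp.PChain.exists_pow_notMem_pow_mem S.pgroup ⊥ (u := x)
    (by simpa using hx1)
  intro z hz
  by_cases hz1 : z = 1
  · rw [hz1]; exact H.one_mem
  obtain ⟨y, hy, rfl⟩ := S.trans' (x := x ^ 2 ^ k)
    (by rw [S.mem_Z0, ← pow_two]; simpa using h2) (by simpa using h1) hz hz1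
  exact hH y hy _ (H.pow_mem hx _)

theorem Z0_ne_bot : S.Z0 ≠ ⊥ := S.crd_Z0.lt.ne'

theorem eq_Z0 {A : Subgroup G} (hA : S.I A) (h : A ≠ ⊥) (h2 : sq A = ⊥) : A = S.Z0 :=
  le_antisymm (fun x hx => by
    rw [mem_Z0, ← Subgroup.mem_bot, ← h2]; exact mul_self_mem_sq hx) (S.Z0_le hA h)

/-- A coordinate on `A² / A⁴` gives one on `A / A²`. -/
theorem crd_sqrt {A : Subgroup G} (hA : Ab A) (hI : S.I A) {ψ : G → F}
    (h : S.Crd (sq A) (sq (sq A)) ψ) : S.Crd A (sq A) (fun a => ψ (a * a)) where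
  le := sq_le A
  inv := hI
  map_mul x hx y hy := by
    rw [hA.mul_sq hx hy, h.map_mul _ (mul_self_mem_sq hx) _ (mul_self_mem_sq hy)]
  eq_zero x hx := by
    rw [h.eq_zero _ (mul_self_mem_sq hx)]
    refine ⟨fun e => ?_, mul_self_mem_sq⟩
    obtain ⟨y, hy, e⟩ := hA.sq.exists_sqrt e
    have hy' := A.inv_mem (sq_le A hy)
    have : x * y⁻¹ ∈ S.Z0 := by
      rw [mem_Z0, hA.mul_sq hx hy', ← e]; group
    simpa using (sq A).mul_mem (S.Z0_le hI.sq h.lt.ne_bot this) hy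
  surj c := by
    obtain ⟨y, hy, e⟩ := h.surj c
    obtain ⟨x, hx, rfl⟩ := hA.exists_sqrt hy
    exact ⟨x, hx, e⟩
  equiv y hy x hx := by rw [← map_mul, h.equiv _ hy _ (mul_self_mem_sq hx)]

variable [Finite G]

/-- All the sections `A / A²` of invariant abelian subgroups are isomorphic to `Z0`. -/
theorem exists_crd (A : Subgroup G) (hA : Ab A) (hI : S.I A) (hne : A ≠ ⊥) :
    ∃ ψ : G → F, S.Crd A (sq A) ψ := by
  induction A using WellFoundedLT.induction with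
  | ind A ih =>
    by_cases h : sq A = ⊥
    · rw [h, S.eq_Z0 hI hne h]; exact ⟨S.ψ, S.crd_Z0⟩
    · obtain ⟨ψ, hψ⟩ := ih _ (sq_lt S.pgroup hA hne) hA.sq hI.sq h
      exact ⟨_, S.crd_sqrt hA hI hψ⟩

theorem le_sq_of_lt {A B : Subgroup G} (hA : Ab A) (hI : S.I A) (hB : S.I B) (h : B < A) :
    B ≤ sq A := by
  obtain ⟨ψ, hψ⟩ := S.exists_crd A hA hI h.ne_bot
  by_contra hc
  obtain ⟨b, hb, hb'⟩ := SetLike.not_le_iff_exists.1 hc
  have hb0 : ψ b ≠ 0 := fun e => hb' ((hψ.eq_zero b (h.le hb)).1 e)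
  refine h.not_ge (le_of_mul_sq S.pgroup hA h.le fun a ha => ?_)
  have : ∃ b ∈ B, ψ b = ψ a := by
    by_cases ha0 : ψ a = 0
    · exact ⟨1, B.one_mem, by rw [ha0, hψ.map_one]⟩
    obtain ⟨y, hy, e⟩ := S.trans _ _ hb0 ha0
    exact ⟨_, hB y hy b hb, by rw [hψ.equiv y hy b (h.le hb)]; exact e⟩
  obtain ⟨b, hb, e⟩ := this
  obtain ⟨c, hc, e⟩ := hA.exists_sqrt ((hψ.eq_iff (h.le hb) ha).1 e)
  exact ⟨b, hb, c, hc, by rw [e]; group⟩

/-- Existence of covers. -/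
theorem exists_cover {A D : Subgroup G} [hAn : A.Normal] [D.Normal] (hA : S.I A) (hD : S.I D)
    (hle : A ≤ D) (h : ¬ D ≤ A) : ∃ C : Subgroup G, S.Cov A C ∧ C ≤ D := by
  let M : Subgroup G :=
    { carrier := {x | x ∈ D ∧ (∀ g : G, ⁅g, x⁆ ∈ A) ∧ x * x ∈ A}
      one_mem' := ⟨D.one_mem, by simp, by simp⟩
      mul_mem' := fun {a b} ha hb => ⟨D.mul_mem ha.1 hb.1,
        fun g => (commMod A g).mul_mem (ha.2.1 g) (hb.2.1 g), by
          rw [mul_sq_eq]; exact A.mul_mem (A.mul_mem ha.2.2 (hb.2.1 _)) hb.2.2⟩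
      inv_mem' := fun {a} ha => ⟨D.inv_mem ha.1, fun g => (commMod A g).inv_mem (ha.2.1 g), by
        rw [← mul_inv_rev]; exact A.inv_mem ha.2.2⟩ }
  have hM : S.I M := fun y hy x hx => ⟨hD y hy x hx.1, fun g => by
    obtain ⟨g, rfl⟩ := y.surjective g
    rw [← map_commutatorElement]; exact hA y hy _ (hx.2.1 g), by
    rw [← map_mul]; exact hA y hy _ hx.2.2⟩
  have hAM : A < M := by
    obtain ⟨u, h1, h2, h3, h4⟩ := Grp.PChain.exists_central_mod_pow S.pgroup D A h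
    refine lt_of_le_of_ne (fun a ha => ⟨hle ha, fun g => ?_, A.mul_mem ha ha⟩) fun e => h2 ?_
    · exact A.mul_mem (hAn.conj_mem a ha g) (A.inv_mem ha)
    · rw [e]; exact ⟨h1, fun g => commutator_mem_comm (h4 g), by rwa [← pow_two]⟩
  obtain ⟨C, ⟨h1, h2, h3⟩, hmin⟩ :=
    exists_minimal_of_wellFoundedLT (fun C : Subgroup G => S.I C ∧ A < C ∧ C ≤ M)
      ⟨M, hM, hAM, le_rfl⟩
  refine ⟨C, ⟨h2, h1, fun g x hx => (h3 hx).2.1 g, fun x hx => (h3 hx).2.2,
    fun B hB hAB hBC => ?_⟩, fun x hx => (h3 hx).1⟩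
  rcases hAB.eq_or_lt with e | e
  · exact Or.inl e.symm
  · exact Or.inr (le_antisymm hBC (hmin ⟨hB, e, hBC.trans h3⟩ hBC))

theorem commutator_mem_sq {A : Subgroup G} [A.Normal] (hA : Ab A) (hI : S.I A) (g : G) {a : G}
    (ha : a ∈ A) : ⁅g, a⁆ ∈ sq A := by
  by_cases hne : A = ⊥
  · rw [hne, Subgroup.mem_bot] at ha; simp [ha]
  obtain ⟨C, h1, h2⟩ := S.exists_cover hI.sq hI (sq_le A) (sq_lt S.pgroup hA hne).not_ge
  rcases h2.eq_or_lt with e | e
  · exact h1.comm g a (e ▸ ha)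
  · exact absurd (S.le_sq_of_lt hA hI h1.inv e) h1.lt.not_ge

theorem card_eq_pow {H : Subgroup G} (hH : S.I H) (h : H ≠ ⊥) :
    ∃ m, Nat.card H = Fintype.card F ^ m := by
  haveI : Nontrivial H := (Subgroup.nontrivial_iff_ne_bot H).2 h
  obtain ⟨m, hm⟩ := OneClass.card_eq_pow_of_transitive (S.pgroup.to_subgroup H)
    fun x z hx1 hx hz1 hz => by
      obtain ⟨y, hy, e⟩ := S.trans' (x := x) (z := z)
        (by rw [S.mem_Z0, ← pow_two]; exact congrArg Subtype.val hx) (by simpa using hx1)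
        (by rw [S.mem_Z0, ← pow_two]; exact congrArg Subtype.val hz) (by simpa using hz1)
      exact ⟨{ toFun := fun h => ⟨y h, hH y hy h h.2⟩
               invFun := fun h => ⟨y⁻¹ h, hH _ (S.Y.inv_mem hy) h h.2⟩
               left_inv := fun h => Subtype.ext (by simp)
               right_inv := fun h => Subtype.ext (by simp)
               map_mul' := fun a b => Subtype.ext (by simp) }, Subtype.ext e⟩
  refine ⟨m, ?_⟩
  rw [hm]
  congr 1
  have h1 := S.quot.card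
  rw [Subgroup.card_bot, mul_one, Nat.card_eq_fintype_card (α := F)] at h1
  rw [← h1]
  exact Nat.card_congr
    { toFun := fun z => ⟨z.1, by rw [S.mem_Z0, ← pow_two]; exact congrArg Subtype.val z.2⟩
      invFun := fun z => ⟨⟨z.1, S.Z0_le hH h z.2⟩,
        Subtype.ext (by simpa [pow_two] using (S.mem_Z0 _).1 z.2)⟩
      left_inv := fun _ => rfl
      right_inv := fun _ => rfl }

theorem card_le_of_quot {A C : Subgroup G} (hA : S.I A) (hC : S.I C) (h0 : A ≠ ⊥) (h : A < C)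
    {V : Type*} [AddCommGroup V] {χ : G → V} (hχ : IsQuot C A χ) :
    Fintype.card F ≤ Nat.card V := by
  obtain ⟨m, hm⟩ := S.card_eq_pow hA h0
  obtain ⟨n, hn⟩ := S.card_eq_pow hC h.ne_bot
  have h1 := hχ.card
  have h2 : Nat.card A < Nat.card C := Set.Finite.card_lt_card (Set.toFinite _) (SetLike.coe_ssubset_coe.2 h)
  have h3 := S.two_lt
  rw [hm, hn] at h1 h2
  have h4 : m + 1 ≤ n := (Nat.pow_lt_pow_iff_right (by omega)).1 h2
  have h5 := Nat.pow_le_pow_right (n := Fintype.card F) (by omega) h4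
  rw [h1, pow_succ'] at h5
  exact Nat.le_of_mul_le_mul_right h5 (by positivity)

end St

end Cfsg.Agent.Suz.Sol
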