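import Mathlib
import Cfsg.Agent.Suz.SolB

/-! Suzuki `2`-groups with a solvable group of automorphisms, part 3: elementary abelian sections
over an invariant normal abelian subgroup. -/

set_option autoImplicit false
set_option linter.style.haveILetI false
set_option linter.unusedSectionVars false

namespace Cfsg.Agent.Suz.Sol

open FM Hig
open scoped commutatorElement

variable {G F : Type*} [Group G] [Field F] [Fintype F] [CharP F 2] [Finite G] (S : St G F)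

namespace St

variable {A C : Subgroup G} [hAn : A.Normal] (hA : Ab A) (hI : S.I A) (hC : S.I C)
include hA hI hC

theorem exists_beta {V : Type*} [AddCommGroup V] {χ : G → V} (hχ : IsQuot C A χ)
    {ψ : G → F} (hψ : S.Crd (sq A) (sq (sq A)) ψ) :
    ∃ β : F →+ V →+ F, (∀ a ∈ A, ∀ y ∈ C, β (ψ (a * a)) (χ y) = ψ ⁅a, y⁆) ∧
      ∀ y ∈ S.Y, ∀ w, ∀ x ∈ C, β (S.act y w) (χ (y x)) = S.act y (β w (χ x)) := by
  have hψ₁ := S.crd_sqrt hA hI hψ
  obtain ⟨β, hβ⟩ := exists_comm_biadd hψ₁.toIsQuot hχ hψ.toIsQuot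
    (fun g _ hd => S.commutator_mem_sq hA.sq hI.sq g hd)
    (fun _ hx y _ => commutator_mem_comm (S.commutator_mem_sq hA hI y hx))
    (fun _ hx y _ => commutator_mem_comm (S.commutator_mem_sq hA.sq hI.sq y hx))
    (fun _ hx _ hy => by rw [hA.commutator hx hy]; exact Subgroup.one_mem _)
  refine ⟨β, hβ, fun y hy w x hx => ?_⟩
  obtain ⟨a, ha, rfl⟩ := hψ₁.surj w
  rw [← hψ₁.equiv y hy a ha, hβ _ (hI y hy a ha) _ (hC y hy x hx), hβ a ha x hx,
    ← map_commutatorElement,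
    hψ.equiv y hy _ (commutator_mem_comm (S.commutator_mem_sq hA hI x ha))]

/-- Case I: all squares of `C` lie in `A²`. -/
theorem caseI (hlt : A < C) (hc : ∀ x ∈ C, ∀ y ∈ C, ⁅x, y⁆ ∈ A) (h2 : sq A ≠ ⊥)
    (hsq : ∀ x ∈ C, x * x ∈ sq A) :
    sq (sq A) = ⊥ ∧ ∀ a ∈ A, a ∉ sq A → ∀ u ∈ C, u ∉ A → ⁅a, u⁆ ≠ 1 := by
  obtain ⟨V, _, χ, hχ⟩ := exists_isQuot hlt.le hc
  haveI := hχ.finite
  have hV := hχ.add_self fun x hx => sq_le A (hsq x hx)
  obtain ⟨ψ, hψ⟩ := S.exists_crd _ hA.sq hI.sq h2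
  have hψ₁ := S.crd_sqrt hA hI hψ
  obtain ⟨β, hβ, hβ'⟩ := S.exists_beta hA hI hC hχ hψ
  have hfe : ∀ u b : G, b * (u * b * u⁻¹) = b * b * ⁅b⁻¹, u⁆ := fun u b => by
    rw [commutatorElement_def]; group
  have hcm : ∀ u : G, ∀ b ∈ A, ⁅b⁻¹, u⁆ ∈ sq A := fun u b hb =>
    commutator_mem_comm (S.commutator_mem_sq hA hI u (A.inv_mem hb))
  have hfm : ∀ u : G, ∀ b ∈ A, b * (u * b * u⁻¹) ∈ sq A := fun u b hb => by
    rw [hfe]; exact (sq A).mul_mem (mul_self_mem_sq hb) (hcm u b hb)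
  have hf : ∀ u ∈ C, ∀ b ∈ A, ψ (b * (u * b * u⁻¹)) = ψ (b * b) + β (ψ (b * b)) (χ u) := by
    intro u hu b hb
    rw [hfe, hψ.map_mul _ (mul_self_mem_sq hb) _ (hcm u b hb), ← hβ _ (A.inv_mem hb) u hu]
    rw [hψ₁.map_inv hb]
  have hfix : ∀ v, v ≠ 0 → ∃ w, w ≠ 0 ∧ β w v = w := by
    intro v hv
    obtain ⟨u, hu, rfl⟩ := hχ.surj v
    by_contra hcon
    push Not at hcon
    let τ : F →+ F := AddMonoidHom.id F + β.flip (χ u)
    have hτ : Function.Injective τ := by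
      rw [injective_iff_map_eq_zero]
      intro w hw
      by_contra h0
      exact hcon w h0 (CharTwo.add_eq_zero.1 hw).symm
    let B : Subgroup G :=
      { carrier := {y | ∃ b ∈ A, b * (u * b * u⁻¹) = y}
        one_mem' := ⟨1, A.one_mem, by simp⟩
        mul_mem' := by
          rintro _ _ ⟨a, ha, rfl⟩ ⟨b, hb, rfl⟩
          refine ⟨a * b, A.mul_mem ha hb, ?_⟩
          calc a * b * (u * (a * b) * u⁻¹) = a * (b * (u * a * u⁻¹)) * (u * b * u⁻¹) := by group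
            _ = _ := by rw [hA b hb _ (hAn.conj_mem a ha u)]; group
        inv_mem' := by
          rintro _ ⟨a, ha, rfl⟩
          refine ⟨a⁻¹, A.inv_mem ha, ?_⟩
          rw [hA a ha _ (hAn.conj_mem a ha u)]; group }
    have hB : sq A ≤ B := by
      refine le_of_mul_sq S.pgroup hA.sq (by rintro _ ⟨b, hb, rfl⟩; exact hfm u b hb) ?_
      intro c hc
      obtain ⟨w, hw⟩ := Finite.injective_iff_surjective.1 hτ (ψ c)
      obtain ⟨b, hb, rfl⟩ := hψ₁.surj w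
      have h1 : ψ (b * (u * b * u⁻¹)) = ψ c := by rw [hf u hu b hb, ← hw]; rfl
      obtain ⟨c', hc', e⟩ := hA.sq.exists_sqrt ((hψ.eq_iff (hfm u b hb) hc).1 h1)
      exact ⟨_, ⟨b, hb, rfl⟩, c', hc', by rw [e]; group⟩
    obtain ⟨b, hb, e⟩ := hB ((sq A).inv_mem (hsq u hu))
    have h3 : b * u ∈ S.Z0 := by
      rw [mem_Z0]
      calc b * u * (b * u) = b * (u * b * u⁻¹) * (u * u) := by group
        _ = 1 := by rw [e, inv_mul_cancel]
    have h4 : u ∈ A := by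
      simpa using A.mul_mem (A.inv_mem hb) (sq_le A (S.Z0_le hI.sq h2 h3))
    exact hv (hχ.map_of_mem h4)
  have hnz : ∀ w v, w ≠ 0 → v ≠ 0 → β w v ≠ 0 := by
    intro w v hw hv h0
    refine false_of_fixed hV β (fun w' => ?_) hfix
    by_cases hw' : w' = 0
    · exact ⟨v, hv, by simp [hw']⟩
    obtain ⟨y, hy, e⟩ := S.trans w w' hw hw'
    obtain ⟨u, hu, rfl⟩ := hχ.surj v
    refine ⟨χ (y u), fun e => hv ?_, ?_⟩
    · exact hχ.map_of_mem ((hI.mem_iff hy).1 ((hχ.eq_zero _ (hC y hy u hu)).1 e))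
    · rw [← e]
      exact (hβ' y hy w u hu).trans (by rw [h0, S.act_zero])
  refine ⟨?_, fun a ha ha' u hu hu' e => ?_⟩
  · by_contra h4
    have key : ∀ v, v ≠ 0 → β 1 v = 1 := by
      intro v hv
      obtain ⟨u, hu, rfl⟩ := hχ.surj v
      obtain ⟨a, ha, e⟩ := hψ₁.surj 1
      obtain ⟨c, hc, ec⟩ := hA.exists_sqrt (commutator_mem_comm (S.commutator_mem_sq hA hI u ha))
      have h5 : c * (u * c * u⁻¹) ∈ S.Z0 := by
        rw [mem_Z0, hA.mul_sq hc (hAn.conj_mem c hc u)]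
        calc c * c * (u * c * u⁻¹ * (u * c * u⁻¹)) = c * c * (u * (c * c) * u⁻¹) := by group
          _ = ⁅a, u * u⁆ := by rw [ec]; simp only [commutatorElement_def]; group
          _ = 1 := hA.commutator ha (sq_le A (hsq u hu))
      have h6 := hf u hu c hc
      rw [hψ.map_of_mem (S.Z0_le hI.sq.sq h4 h5), ec, ← hβ a ha u hu, e] at h6
      by_contra h7
      refine hnz (β 1 (χ u) + 1) (χ u) (fun e => h7 (CharTwo.add_eq_zero.1 e)) hv ?_
      rw [map_add, AddMonoidHom.add_apply, add_comm, ← h6]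
    letI := Fintype.ofFinite V
    have h5 := S.card_le_of_quot hI hC (fun e => h2 (le_bot_iff.1 (e ▸ sq_le A))) hlt hχ
    rw [Nat.card_eq_fintype_card] at h5
    obtain ⟨x, y, z, hxy, hxz, hyz⟩ := Fintype.two_lt_card_iff.1 (S.two_lt.trans_le h5)
    have := key (x - y) (sub_ne_zero.2 hxy)
    rw [← sub_sub_sub_cancel_right x y z, map_sub, key _ (sub_ne_zero.2 hxz),
      key _ (sub_ne_zero.2 hyz), sub_self] at this
    exact zero_ne_one this
  · refine hnz (ψ (a * a)) (χ u) (fun e => ha' ((hψ₁.eq_zero a ha).1 e))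
      (fun e => hu' ((hχ.eq_zero u hu).1 e)) ?_
    rw [hβ a ha u hu, e, hψ.map_one]

omit [Finite G] hAn hA hI hC in
theorem comm_sq_eq (x y : G) : ⁅x * x, y⁆ = ⁅⁅x, y⁆, x⁆⁻¹ * (⁅x, y⁆ * ⁅x, y⁆) := by
  simp only [commutatorElement_def, mul_inv_rev, inv_inv, mul_assoc, inv_mul_cancel_left,
    mul_inv_cancel_left]

/-- The isotypic components of `C / A` are abelian modulo `A²`. -/
theorem exists_iso (hle : A ≤ C) (hc : ∀ x ∈ C, ∀ y ∈ C, ⁅x, y⁆ ∈ A) (h2 : sq A ≠ ⊥)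
    (hsq : ∀ x ∈ C, x * x ∈ A) (hinj : ∀ u ∈ C, (∀ a ∈ A, ⁅a, u⁆ ∈ sq (sq A)) → u ∈ A) :
    ∃ W : F → Subgroup G, (∀ μ, A ≤ W μ ∧ W μ ≤ C ∧ S.I (W μ) ∧
      ∀ x ∈ W μ, ∀ y ∈ W μ, ⁅x, y⁆ ∈ sq A) ∧ ∀ T : Subgroup G, (∀ μ, W μ ≤ T) → C ≤ T := by
  obtain ⟨V, _, χ, hχ⟩ := exists_isQuot hle hc
  have hV := hχ.add_self hsq
  obtain ⟨ψ, hψ⟩ := S.exists_crd _ hA.sq hI.sq h2
  have hψ₁ := S.crd_sqrt hA hI hψ
  obtain ⟨β, hβ, hβ'⟩ := S.exists_beta hA hI hC hχ hψ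
  obtain ⟨b, hb⟩ := exists_comm_biadd hχ hχ hψ₁.toIsQuot
    (fun g _ hd => S.commutator_mem_sq hA hI g hd) hc
    (fun _ hx y _ => commutator_mem_comm (S.commutator_mem_sq hA hI y hx))
    (fun x _ _ hy => S.commutator_mem_sq hA hI x hy)
  have hact : ∀ y ∈ S.Y, ∃ f : V →+ V, ∀ x ∈ C, f (χ x) = χ (y x) := fun y hy =>
    hχ.exists_add (fun x => χ (y x))
      (fun x hx x' hx' => by rw [map_mul, hχ.map_mul _ (hC y hy x hx) _ (hC y hy x' hx')])
      (fun x hx => hχ.map_of_mem (hI y hy x hx))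
  have hfix : ∀ y ∈ S.Y, ∀ y' ∈ S.Y, (∀ u, S.act y u = S.act y' u) →
      ∀ x ∈ C, χ (y x) = χ (y' x) := by
    intro y hy y' hy' h x hx
    have h1 := hC y hy x hx
    have h3 := hC y' hy' x hx
    rw [hχ.eq_iff h1 h3]
    have h4 := C.mul_mem (C.inv_mem h1) h3
    refine hinj _ h4 fun a ha => ?_
    rw [← hψ.eq_zero _ (commutator_mem_comm (S.commutator_mem_sq hA hI _ ha)), ← hβ a ha _ h4,
      hχ.map_mul _ (C.inv_mem h1) _ h3, hχ.map_inv' h1, map_add, map_neg]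
    obtain ⟨w, hw⟩ := S.act_surj hy (ψ (a * a))
    rw [← hw, hβ' y hy w x hx, h, h, hβ' y' hy' w x hx, neg_add_cancel]
  obtain ⟨ξ, hξ⟩ := hact _ S.ξ_mem
  have hξi : ∀ (i : ℕ), ∀ x ∈ C, ξ^[i] (χ x) = χ ((S.ξ ^ i) x) := by
    intro i x hx
    induction i with
    | zero => rfl
    | succ i ih =>
      rw [Function.iterate_succ_apply', ih, hξ _ (hC _ (S.Y.pow_mem S.ξ_mem i) x hx), pow_succ',
        MulAut.mul_apply]
  choose s hs hs' using hχ.surj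
  let Q : V → F := fun v => ψ (s v * s v * (s v * s v))
  have hQ : ∀ x ∈ C, Q (χ x) = ψ (x * x * (x * x)) := by
    intro x hx
    have h1 := (hχ.eq_iff hx (hs _)).1 (hs' (χ x)).symm
    have h3 : s (χ x) * s (χ x) = x * x * ⁅x⁻¹, x⁻¹ * s (χ x)⁆ *
        (x⁻¹ * s (χ x) * (x⁻¹ * s (χ x))) := by rw [← mul_sq_eq, mul_inv_cancel_left]
    have h4 := S.commutator_mem_sq hA hI x⁻¹ h1
    have h5 := hψ₁.map_mul _ (A.mul_mem (hsq x hx) (sq_le A h4)) _ (A.mul_mem h1 h1)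
    rw [← h3, hψ₁.map_mul _ (hsq x hx) _ (sq_le A h4), hψ₁.map_of_mem h4,
      hψ₁.map_of_mem (mul_self_mem_sq h1), add_zero, add_zero] at h5
    exact h5
  have hall : ∀ {P : V → Prop}, (∀ x ∈ C, P (χ x)) → ∀ v, P v := fun h v => hs' v ▸ h _ (hs v)
  have hthree : ∀ μ : F, μ ≠ 0 → ∀ i j : F →+ V, (∀ s, i (μ * s) = ξ (i s)) →
      (∀ s, j (μ * s) = ξ (j s)) → ∀ s t, b (i s) (j t) = 0 := fun μ hμ =>
    class_three (Q := Q) (β := β) S.p3 S.two_lt hμ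
      (hall fun x hx => by
        rw [hξ x hx, hQ _ (hC _ S.ξ_mem x hx), hQ x hx, ← map_mul, hψ₁.equiv_ξ (hsq x hx)])
      (hall fun x hx => hall fun y hy => by
        rw [hξ x hx, hξ y hy, hb _ (hC _ S.ξ_mem x hx) _ (hC _ S.ξ_mem y hy), hb x hx y hy,
          ← map_commutatorElement, hψ₁.equiv_ξ (hc x hx y hy)])
      (fun w => hall fun y hy => by
        have := hβ' _ S.ξ_mem w y hy
        rwa [act, act, S.σ_ξ, S.σ_ξ, ← hξ y hy] at this)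
      (hall fun x hx => hall fun y hy => by
        rw [hb x hx y hy, hb y hy x hx, ← commutatorElement_inv x y, hψ₁.map_inv (hc x hx y hy)])
      (hall fun x hx => hall fun y hy => by
        have hd := hc x hx y hy
        have h7 := commutator_mem_comm (S.commutator_mem_sq hA hI x hd)
        rw [hQ x hx, hβ _ (hsq x hx) y hy, hb x hx y hy, hβ _ hd x hx, comm_sq_eq,
          hψ.map_mul _ (Subgroup.inv_mem _ h7) _ (mul_self_mem_sq hd), hψ.map_inv h7, add_comm])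
  let U : F → AddSubgroup V := fun μ => AddSubgroup.closure
    {v | μ ≠ 0 ∧ ∃ ι : F →+ V, (∀ s, ι (μ * s) = ξ (ι s)) ∧ ∃ s, ι s = v}
  let pb : AddSubgroup V → Subgroup G := fun U =>
    { carrier := {x | x ∈ C ∧ χ x ∈ U}
      one_mem' := ⟨C.one_mem, by rw [hχ.map_one]; exact U.zero_mem⟩
      mul_mem' := fun ⟨ha, ha'⟩ ⟨hb, hb'⟩ =>
        ⟨C.mul_mem ha hb, by rw [hχ.map_mul _ ha _ hb]; exact U.add_mem ha' hb'⟩
      inv_mem' := fun ⟨ha, ha'⟩ =>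
        ⟨C.inv_mem ha, by rw [hχ.map_inv' ha]; exact U.neg_mem ha'⟩ }
  refine ⟨fun μ => pb (U μ), fun μ => ⟨fun x hx => ⟨hle hx, ?_⟩, fun x hx => hx.1,
    fun y hy x hx => ⟨hC y hy x hx.1, ?_⟩, fun x hx y hy => ?_⟩, fun T hT x hx => ?_⟩
  · rw [hχ.map_of_mem hx]; exact AddSubgroup.zero_mem _
  · obtain ⟨f, hf⟩ := hact y hy
    obtain ⟨k, hk⟩ := exists_pow (S.σ y).symm
    have h1 : ∀ v, f (ξ^[2 ^ k] v) = ξ (f v) := hall fun x hx => by
      have h3 := S.Y.pow_mem S.ξ_mem (2 ^ k)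
      rw [hξi _ x hx, hf _ (hC _ h3 x hx), hf x hx, hξ _ (hC y hy x hx)]
      refine hfix _ (S.Y.mul_mem hy h3) _ (S.Y.mul_mem S.ξ_mem hy) (fun u => ?_) x hx
      rw [S.act_mul hy h3, S.act_mul S.ξ_mem hy, act_ξ_pow, ← hk]
      simp only [act, S.σ_ξ, map_mul, RingEquiv.apply_symm_apply]
      ring
    have h4 : U μ ≤ (U μ).comap f := by
      rw [AddSubgroup.closure_le]
      rintro _ ⟨hμ, ι, hι, t, rfl⟩
      have h5 : ∀ (i : ℕ) s, ι (μ ^ i * s) = ξ^[i] (ι s) := by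
        intro i s
        induction i with
        | zero => simp
        | succ i ih => rw [pow_succ', mul_assoc, hι, ih, Function.iterate_succ_apply']
      refine AddSubgroup.subset_closure ⟨hμ, f.comp (ι.comp (S.σ y).symm.toAddMonoidHom),
        fun s => ?_, S.σ y t, by simp⟩
      change f (ι ((S.σ y).symm (μ * s))) = ξ (f (ι ((S.σ y).symm s)))
      rw [map_mul, hk μ, h5, h1]
    rw [← hf x hx.1]
    exact h4 hx.2
  · rw [← hψ₁.eq_zero _ (hc x hx.1 y hy.1), ← hb x hx.1 y hy.1]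
    have h1 : U μ ≤ (b.flip (χ y)).ker := by
      rw [AddSubgroup.closure_le]
      rintro _ ⟨hμ, i, hi, t, rfl⟩
      have h3 : U μ ≤ (b (i t)).ker := by
        rw [AddSubgroup.closure_le]
        rintro _ ⟨-, j, hj, t', rfl⟩
        exact hthree μ hμ i j hi hj t t'
      exact h3 hy.2
    exact h1 hx.2
  · let U' : AddSubgroup V :=
      { carrier := {v | ∃ t ∈ C, t ∈ T ∧ χ t = v}
        zero_mem' := ⟨1, C.one_mem, T.one_mem, hχ.map_one⟩
        add_mem' := by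
          rintro _ _ ⟨a, ha, ha', rfl⟩ ⟨c, hc, hc', rfl⟩
          exact ⟨a * c, C.mul_mem ha hc, T.mul_mem ha' hc', hχ.map_mul _ ha _ hc⟩
        neg_mem' := by
          rintro _ ⟨a, ha, ha', rfl⟩
          exact ⟨a⁻¹, C.inv_mem ha, T.inv_mem ha', hχ.map_inv' ha⟩ }
    obtain ⟨t, ht, ht', e⟩ := mem_of_weights (F := F) hV ξ (hall fun x hx => by
      rw [hξi _ x hx]
      refine hfix _ (S.Y.pow_mem S.ξ_mem _) 1 S.Y.one_mem (fun u => ?_) x hx
      rw [act_ξ_pow, act_one, FiniteField.pow_card_sub_one_eq_one _ S.p3.1, one_mul]) U'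
      (fun μ hμ ι hι r => ⟨s (ι r), hs _, hT μ ⟨hs _, by
        rw [hs']; exact AddSubgroup.subset_closure ⟨hμ, ι, hι, r, rfl⟩⟩, hs' _⟩) (χ x)
    have h1 := (hχ.eq_iff ht hx).1 e
    have h3 : t⁻¹ * x ∈ T := hT 0 ⟨hle h1, by rw [hχ.map_of_mem h1]; exact AddSubgroup.zero_mem _⟩
    simpa using T.mul_mem ht' h3

/-- If squaring is a nonzero additive map `C / A → A / A²` it is onto. -/
theorem sq_surj (hsq : ∀ x ∈ C, x * x ∈ A) (hx : ∃ x ∈ C, x * x ∉ sq A) {ψ : G → F}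
    (hψ : S.Crd A (sq A) ψ) (u : F) : ∃ x ∈ C, ψ (x * x) = u := by
  by_cases hu : u = 0
  · exact ⟨1, C.one_mem, by rw [mul_one, hψ.map_one, hu]⟩
  obtain ⟨x, hx, hx'⟩ := hx
  obtain ⟨y, hy, e⟩ := S.trans (ψ (x * x)) u (fun e => hx' ((hψ.eq_zero _ (hsq x hx)).1 e)) hu
  exact ⟨y x, hC y hy x hx, by rw [← map_mul, hψ.equiv y hy _ (hsq x hx)]; exact e⟩

omit hC in
/-- Case IIa is impossible. -/
theorem caseIIa (h : S.Cov A C) (hna : ¬ Ab C) (hx : ∃ x ∈ C, x * x ∉ sq A) :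
    ∃ x ∈ C, ∃ y ∈ C, ⁅x, y⁆ ∉ sq A := by
  by_contra hcon
  push Not at hcon
  haveI : C.Normal := normal_of_commutator_mem h.lt.le h.comm
  have hDA : ⁅C, C⁆ ≤ A := Subgroup.commutator_le.2 fun x _ y hy => h.comm x y hy
  have hD : Ab ⁅C, C⁆ := hA.mono hDA
  have hDI : S.I ⁅C, C⁆ := h.inv.commutator h.inv
  have hD0 : ⁅C, C⁆ ≠ ⊥ := fun e => hna fun x hx y hy => by
    rw [← commutatorElement_eq_one_iff_mul_comm, ← Subgroup.mem_bot, ← e]
    exact Subgroup.commutator_mem_commutator hx hy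
  obtain ⟨ψ, hψ⟩ := S.exists_crd A hA hI fun e => hD0 (le_bot_iff.1 (e ▸ hDA))
  obtain ⟨δ, hδ⟩ := S.exists_crd _ hD hDI hD0
  let K : Subgroup G :=
    { carrier := {x | x ∈ C ∧ x * x ∈ sq A}
      one_mem' := ⟨C.one_mem, by simp⟩
      mul_mem' := fun {x y} hx hy => ⟨C.mul_mem hx.1 hy.1, by
        rw [mul_sq_eq]
        exact Subgroup.mul_mem _ (Subgroup.mul_mem _ hx.2 (hcon _ (C.inv_mem hx.1) y hy.1)) hy.2⟩
      inv_mem' := fun {x} hx => ⟨C.inv_mem hx.1, by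
        rw [← mul_inv_rev]; exact Subgroup.inv_mem _ hx.2⟩ }
  have hK : K = A := by
    refine (h.min K (fun y hy x hx => ⟨h.inv y hy x hx.1, by
      rw [← map_mul]; exact hI.sq y hy _ hx.2⟩) (fun x hx => ⟨h.lt.le hx, mul_self_mem_sq hx⟩)
      fun x hx => hx.1).resolve_right fun e => ?_
    obtain ⟨x, hx, hx'⟩ := hx
    exact hx' (show x ∈ K from e ▸ hx).2
  have hQ : S.Crd C A (fun x => ψ (x * x)) :=
    { le := h.lt.le
      map_mul := fun x hx y hy => by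
        have h1 := h.comm x⁻¹ y hy
        rw [mul_sq_eq, hψ.map_mul _ (A.mul_mem (h.sq x hx) h1) _ (h.sq y hy),
          hψ.map_mul _ (h.sq x hx) _ h1, hψ.map_of_mem (hcon _ (C.inv_mem hx) y hy), add_zero]
      eq_zero := fun x hx => by
        rw [hψ.eq_zero _ (h.sq x hx)]
        exact ⟨fun e => hK ▸ (⟨hx, e⟩ : x ∈ K), mul_self_mem_sq⟩
      surj := S.sq_surj hA hI h.inv h.sq hx hψ
      inv := h.inv
      equiv := fun y hy x hx => by rw [← map_mul, hψ.equiv y hy _ (h.sq x hx)] }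
  have h1 : ∀ y ∈ C, ∀ x ∈ C, x * x ∈ commMod (sq ⁅C, C⁆) y := by
    intro y hy x hx
    have hd := Subgroup.commutator_mem_commutator hy hx
    have : ⁅y, x * x⁆ = ⁅y, x⁆ * ⁅x, ⁅y, x⁆⁆ * ⁅y, x⁆⁻¹ * (⁅y, x⁆ * ⁅y, x⁆) := by
      simp only [commutatorElement_def]; group
    rw [mem_commMod, this]
    exact Subgroup.mul_mem _ ((sq_normal _).conj_mem _ (S.commutator_mem_sq hD hDI x hd) _)
      (mul_self_mem_sq hd)
  have h2 : ∀ y ∈ C, ∀ a ∈ A, ⁅y, a⁆ ∈ sq ⁅C, C⁆ := by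
    intro y hy a ha
    obtain ⟨x, hx, e⟩ := hQ.surj (ψ a)
    obtain ⟨c, hc, e'⟩ := hA.exists_sqrt ((hψ.eq_iff (h.sq x hx) ha).1 e)
    have := Subgroup.mul_mem _ (h1 y hy x hx) (h1 y hy c (h.lt.le hc))
    rwa [e', mul_inv_cancel_left] at this
  obtain ⟨b, hb⟩ := exists_comm_biadd hQ.toIsQuot hQ.toIsQuot hδ.toIsQuot
    (fun g d hd => S.commutator_mem_sq hD hDI g hd)
    (fun x hx y hy => Subgroup.commutator_mem_commutator hx hy)
    (fun x hx y hy => commutator_mem_comm (h2 y hy x hx)) (fun x hx y hy => h2 x hx y hy)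
  refine hδ.lt.not_ge (Subgroup.commutator_le.2 fun x hx y hy => ?_)
  rw [← hδ.eq_zero _ (Subgroup.commutator_mem_commutator hx hy), ← hb x hx y hy]
  refine S.p3.alt_zero b (fun u v => ?_) ?_ _ _
  · obtain ⟨x, hx, rfl⟩ := hQ.surj u
    obtain ⟨y, hy, rfl⟩ := hQ.surj v
    rw [← hQ.equiv_ξ hx, ← hQ.equiv_ξ hy, hb _ (h.inv _ S.ξ_mem x hx) _ (h.inv _ S.ξ_mem y hy),
      hb x hx y hy, ← map_commutatorElement,
      hδ.equiv_ξ (Subgroup.commutator_mem_commutator hx hy)]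
  · obtain ⟨x, hx, e⟩ := hQ.surj 1
    rw [← e, hb x hx x hx, commutatorElement_self, hδ.map_one]

omit hC in
/-- Case IIb is impossible when `A² ≠ 1`. -/
theorem caseIIb (h : S.Cov A C) (h2 : sq A ≠ ⊥) {x y : G} (hx : x ∈ C) (hy : y ∈ C) :
    ⁅x, y⁆ ∈ sq A := by
  by_contra hxy
  let K : Subgroup G := C ⊓ ⨅ a ∈ A, commMod (sq (sq A)) a
  have hK : ∀ u, u ∈ K ↔ u ∈ C ∧ ∀ a ∈ A, ⁅a, u⁆ ∈ sq (sq A) := fun u => by
    simp only [K, Subgroup.mem_inf, Subgroup.mem_iInf, mem_commMod]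
  have hKA : K = A := by
    refine (h.min K (fun z hz u hu => ?_) (fun u hu => (hK u).2 ⟨h.lt.le hu, fun a ha => ?_⟩)
      inf_le_left).resolve_right fun e => hxy ?_
    · rw [hK] at hu ⊢
      refine ⟨h.inv z hz u hu.1, fun a ha => ?_⟩
      obtain ⟨a, rfl⟩ := z.surjective a
      rw [← map_commutatorElement]
      exact hI.sq.sq z hz _ (hu.2 a ((hI.mem_iff hz).1 ha))
    · rw [hA.commutator ha hu]; exact Subgroup.one_mem _
    · obtain ⟨ψ, hψ⟩ := S.exists_crd _ hA.sq hI.sq h2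
      have hψ₁ := S.crd_sqrt hA hI hψ
      have hd := h.comm x y hy
      rw [← hψ₁.eq_zero _ hd]
      refine hψ.map_of_mem ?_
      have h1 := ((hK y).1 (e ▸ hy)).2 _ (h.sq x hx)
      have h3 := ((hK x).1 (e ▸ hx)).2 _ hd
      rw [comm_sq_eq] at h1
      have h4 := Subgroup.mul_mem _ h3 h1
      rwa [mul_inv_cancel_left] at h4
  obtain ⟨W, hW, hW'⟩ := S.exists_iso hA hI h.inv h.lt.le (fun x _ y hy => h.comm x y hy) h2 h.sq
    fun u hu hu' => hKA ▸ (hK u).2 ⟨hu, hu'⟩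
  refine h.lt.not_ge (hW' A fun μ => ?_)
  obtain ⟨h1, h3, h4, h5⟩ := hW μ
  rcases h.min _ h4 h1 h3 with e | e
  · exact e.le
  · exact absurd (h5 x (e ▸ hx) y (e ▸ hy)) hxy

omit hC in
theorem cover_cases (h : S.Cov A C) (hna : ¬ Ab C) (h2 : sq A ≠ ⊥) :
    sq (sq A) = ⊥ ∧ ∀ a ∈ A, a ∉ sq A → ∀ u ∈ C, u ∉ A → ⁅a, u⁆ ≠ 1 := by
  refine S.caseI hA hI h.inv h.lt (fun x _ y hy => h.comm x y hy) h2 ?_
  by_contra hx
  push Not at hx
  obtain ⟨x, hx, y, hy, hxy⟩ := S.caseIIa hA hI h hna hx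
  exact hxy (S.caseIIb hA hI h h2 hx hy)

end St

end Cfsg.Agent.Suz.Sol
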