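import Mathlib
import Cfsg.Agent.Suz.SolC
import Cfsg.Agent.Suz.Higman

/-! Suzuki `2`-groups with a solvable group of automorphisms, part 4: `G / Z0` is elementary
abelian and `Z0` is the centre. -/

set_option autoImplicit false
set_option linter.style.haveILetI false
set_option linter.unusedSectionVars false

namespace Cfsg.Agent.Suz.Sol

open FM Hig
open scoped commutatorElement

variable {G F : Type*} [Group G] [Field F] [Fintype F] [CharP F 2] [Finite G] (S : St G F)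

namespace St

theorem commutator_commutator {c : G} (h : ∀ g : G, ⁅g, c⁆ ∈ S.Z0) :
    (∀ x ∈ ⁅(⊤ : Subgroup G), (⊤ : Subgroup G)⁆, ⁅x, c⁆ = 1) ∧ ∀ x : G, ⁅x * x, c⁆ = 1 := by
  let f : G →* G := MonoidHom.mk' (fun g => ⁅g, c⁆) fun a b => by
    rw [commutatorElement_mul_left_eq_conj_mul, S.conj_eq (h b), S.comm_Z0 (h b)]
  refine ⟨fun x hx => ?_, fun x => ?_⟩
  · have : ⁅(⊤ : Subgroup G), (⊤ : Subgroup G)⁆ ≤ f.ker :=
      Subgroup.commutator_le.2 fun a _ b _ => by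
        rw [MonoidHom.mem_ker, map_commutatorElement]; exact S.commutator_eq_one (h b) _
    exact this hx
  · exact (map_mul f x x).trans ((S.mem_Z0 _).1 (h x))

/-- Two invariant subgroups with squares in `Z0` commute modulo `Z0`. -/
theorem commutator_covers {A C : Subgroup G} [hAn : A.Normal] (hA : Ab A) (hI : S.I A)
    (hZ : sq A = S.Z0) (hcent : Subgroup.centralizer (A : Set G) ≤ A)
    (hc : ∀ x y : G, ⁅x, y⁆ ∈ A) (hC : S.I C) (hle : A ≤ C) (hs₂ : ∀ x ∈ C, x * x ∈ S.Z0)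
    {x y₀ : G} (hx : x * x ∈ S.Z0) (hy₀ : y₀ ∈ C) : ⁅x, y₀⁆ ∈ S.Z0 := by
  by_contra hcon
  have hAZ : ∀ g : G, ∀ a ∈ A, ⁅g, a⁆ ∈ S.Z0 := fun g a ha =>
    hZ ▸ S.commutator_mem_sq hA hI g ha
  have hlt : A < C := lt_of_le_of_ne hle fun e => hcon (hAZ x y₀ (e ▸ hy₀))
  have h2 : sq A ≠ ⊥ := hZ ▸ S.Z0_ne_bot
  have hne : A ≠ ⊥ := fun e => h2 (le_bot_iff.1 (e ▸ sq_le A))
  have hnz := (S.caseI hA hI hC hlt (fun x _ y _ => hc x y) h2 (hZ ▸ hs₂)).2
  obtain ⟨ψ, hψ⟩ := S.exists_crd A hA hI hne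
  obtain ⟨V, _, χ, hχ⟩ := exists_isQuot hle (fun x _ y _ => hc x y)
  haveI := hχ.finite
  obtain ⟨b, hb⟩ := hχ.exists_add (fun y => ψ ⁅x, y⁆) (fun y _ y' _ => by
      have : ⁅x, y * y'⁆ = ⁅x, y⁆ * (y * ⁅x, y'⁆ * y⁻¹) := by
        simp only [commutatorElement_def]; group
      rw [this, hψ.map_mul _ (hc x y) _ (hAn.conj_mem _ (hc x y') y),
        hψ.map_conj (hc x y') (S.commutator_mem_sq hA hI _ (hc x y'))])
    (fun y hy => hψ.map_of_mem (S.commutator_mem_sq hA hI x hy))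
  have hinv : ∀ y ∈ C, y * ⁅x, y⁆ * y⁻¹ = ⁅x, y⁆⁻¹ := fun y hy =>
    conj_commutator_eq_inv (S.comm_Z0 (hs₂ y hy) x).symm
  have hinj : Function.Injective b := by
    rw [injective_iff_map_eq_zero]
    intro v hv
    obtain ⟨y, hy, rfl⟩ := hχ.surj v
    rw [hb y hy, hψ.eq_zero _ (hc x y), hZ] at hv
    by_contra h0
    refine hnz _ (hc x y₀) (by rwa [hZ]) y hy (fun e => h0 (hχ.map_of_mem e)) ?_
    have h1 := hinv _ (C.mul_mem hy₀ hy)
    have h2 : ⁅x, y₀ * y⁆ = ⁅x, y⁆ * ⁅x, y₀⁆ := by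
      rw [S.comm_Z0 hv, ← S.conj_eq hv y₀]; simp only [commutatorElement_def]; group
    have h3 := S.conj_eq hv (y₀ * y)
    have h4 : ⁅x, y⁆⁻¹ = ⁅x, y⁆ := inv_eq_of_mul_eq_one_right ((S.mem_Z0 _).1 hv)
    rw [h2, mul_inv_rev ⁅x, y⁆, ← hinv y₀ hy₀, h4, ← S.comm_Z0 hv] at h1
    rw [commutatorElement_eq_one_iff_mul_comm]
    generalize ⁅x, y₀⁆ = d at h1 ⊢
    generalize ⁅x, y⁆ = z at h1 h3
    have h5 : y₀ * y * (z * d) * (y₀ * y)⁻¹ = z * (y₀ * y * d * (y₀ * y)⁻¹) := by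
      conv_rhs => rw [← h3]
      group
    rw [h5, mul_right_inj] at h1
    calc d * y = y₀⁻¹ * (y₀ * d * y₀⁻¹) * y₀ * y := by group
      _ = y * d := by rw [← h1]; group
  have hsurj : Function.Surjective b := (hinj.bijective_of_nat_card_le (by
    rw [Nat.card_eq_fintype_card]; exact S.card_le_of_quot hI hC hne hlt hχ)).2
  have hxinv : ∀ a ∈ A, x * a * x⁻¹ = a⁻¹ := by
    intro a ha
    obtain ⟨v, hv⟩ := hsurj (ψ a)
    obtain ⟨y, hy, rfl⟩ := hχ.surj v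
    rw [hb y hy, hψ.eq_iff (hc x y) ha, hZ, commutatorElement_inv] at hv
    have h1 := conj_commutator_eq_inv (S.comm_Z0 hx y).symm
    have h2 := S.conj_eq hv x
    have h3 : (⁅y, x⁆ * a)⁻¹ = ⁅y, x⁆ * a := inv_eq_of_mul_eq_one_right ((S.mem_Z0 _).1 hv)
    have h4 := hA _ (hc y x) a ha
    generalize ⁅y, x⁆ = d at h1 h2 h3 h4
    calc x * a * x⁻¹ = (x * d * x⁻¹)⁻¹ * (x * (d * a) * x⁻¹) := by group
      _ = a⁻¹ := by rw [h1, h2, ← h3, h4]; group
  have hxx : x * x = 1 := by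
    refine S.eq_one_of_fixed hx fun y hy => ?_
    have h1 : y x * x⁻¹ ∈ A := by
      refine hcent (Subgroup.mem_centralizer_iff.2 fun a ha => ?_)
      obtain ⟨a', rfl⟩ := y.surjective a
      have h1 := congrArg y (hxinv a'⁻¹ (A.inv_mem ((hI.mem_iff hy).1 ha)))
      have h2 := hxinv _ (A.inv_mem ha)
      rw [inv_inv, map_mul, map_mul, map_inv, map_inv] at h1
      rw [inv_inv] at h2
      have h3 : x⁻¹ * y a' * x = (y a')⁻¹ := by
        nth_rw 1 [← h2]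
        group
      calc y a' * (y x * x⁻¹) = y x * (y a')⁻¹ * (y x)⁻¹ * (y x * x⁻¹) := by rw [h1]
        _ = y x * (x⁻¹ * y a' * x) * x⁻¹ := by rw [h3]; group
        _ = y x * x⁻¹ * y a' := by group
    have h2 := hxinv _ h1
    rw [map_mul]
    calc y x * y x = y x * x⁻¹ * (x * (y x * x⁻¹) * x⁻¹) * (x * x) := by group
      _ = x * x := by rw [h2, mul_inv_cancel, one_mul]
  exact hcon (commutator_mem_comm (by
    rw [S.commutator_eq_one ((S.mem_Z0 x).2 hxx)]; exact Subgroup.one_mem _))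

/-- `Z(G) = Z0` and `G / Z0` is elementary abelian. -/
theorem center_eq_and (hna : ¬ Ab (⊤ : Subgroup G)) :
    Subgroup.center G = S.Z0 ∧ (∀ x y : G, ⁅x, y⁆ ∈ S.Z0) ∧ ∀ x : G, x * x ∈ S.Z0 := by
  obtain ⟨A, ⟨hAn, hA, hI⟩, hmax⟩ :=
    exists_maximal_of_wellFoundedGT (fun A : Subgroup G => A.Normal ∧ Ab A ∧ S.I A)
      ⟨⊥, inferInstance, fun x hx y _ => by simp [Subgroup.mem_bot.1 hx], S.I_bot⟩
  have hne : A ≠ ⊥ := fun e => S.Z0_ne_bot (le_bot_iff.1 (e ▸ hmax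
    ⟨S.Z0_normal, S.Z0_ab, S.Z0_inv⟩ (e ▸ bot_le)))
  have hcov : ∀ {C : Subgroup G}, S.Cov A C → ¬ Ab C := fun hC hab =>
    hC.lt.not_ge (hmax ⟨normal_of_commutator_mem hC.lt.le hC.comm, hab, hC.inv⟩ hC.lt.le)
  by_cases h2 : sq A = ⊥
  · have hZ := S.eq_Z0 hI hne h2
    have hcen : Subgroup.center G = S.Z0 := by
      refine le_antisymm ?_ S.Z0_le_center
      rw [← hZ]
      exact hmax ⟨inferInstance, fun x _ y hy => Subgroup.mem_center_iff.1 hy x, S.I_center⟩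
        (hZ ▸ S.Z0_le_center)
    have hcm : ∀ x y : G, ⁅x, y⁆ ∈ S.Z0 := by
      suffices ⁅(⊤ : Subgroup G), (⊤ : Subgroup G)⁆ ≤ A from fun x y =>
        hZ ▸ this (Subgroup.commutator_mem_commutator trivial trivial)
      by_contra h
      have hD : S.I ⁅(⊤ : Subgroup G), (⊤ : Subgroup G)⁆ := S.I_top.commutator S.I_top
      obtain ⟨C, h1, h3⟩ := S.exists_cover hI hD (hZ ▸ S.Z0_le hD fun e => h (e ▸ bot_le)) h
      refine hcov h1 fun x hx y hy => commutatorElement_eq_one_iff_mul_comm.1 ?_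
      exact (S.commutator_commutator fun g => hZ ▸ h1.comm g y hy).1 x (h3 hx)
    refine ⟨hcen, hcm, fun x => ?_⟩
    rw [← hcen, Subgroup.mem_center_iff]
    exact fun g => (commutatorElement_eq_one_iff_mul_comm.1
      ((S.commutator_commutator fun h => hcm h g).2 x)).symm
  have htop : ¬ ⊤ ≤ A := fun h => hna (hA.mono h)
  have h4 : sq (sq A) = ⊥ := by
    obtain ⟨C, h1, -⟩ := S.exists_cover hI S.I_top le_top htop
    exact (S.cover_cases hA hI h1 (hcov h1) h2).1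
  have hZ : sq A = S.Z0 := S.eq_Z0 hI.sq h2 h4
  have hcent : Subgroup.centralizer (A : Set G) ≤ A := by
    by_contra h
    obtain ⟨C, h1, h3⟩ := S.exists_cover hI hI.centralizer
      (fun a ha => Subgroup.mem_centralizer_iff.2 fun b hb => hA b hb a ha) h
    obtain ⟨a, ha, ha'⟩ := SetLike.exists_of_lt (sq_lt S.pgroup hA hne)
    obtain ⟨u, hu, hu'⟩ := SetLike.exists_of_lt h1.lt
    exact (S.cover_cases hA hI h1 (hcov h1) h2).2 a ha ha' u hu hu'
      (commutatorElement_eq_one_iff_mul_comm.2 (Subgroup.mem_centralizer_iff.1 (h3 hu) a ha))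
  have hcent' : ∀ u : G, (∀ a ∈ A, ⁅u, a⁆ = 1) → u ∈ A := fun u hu =>
    hcent (Subgroup.mem_centralizer_iff.2 fun a ha =>
      (commutatorElement_eq_one_iff_mul_comm.1 (hu a ha)).symm)
  have hAZ : ∀ g : G, ∀ a ∈ A, ⁅g, a⁆ ∈ S.Z0 := fun g a ha =>
    hZ ▸ S.commutator_mem_sq hA hI g ha
  have hc : ∀ x y : G, ⁅x, y⁆ ∈ A := fun x y => hcent' _ fun a ha =>
    (S.commutator_commutator fun g => hAZ g a ha).1 _
      (Subgroup.commutator_mem_commutator trivial trivial)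
  have hsq : ∀ x : G, x * x ∈ A := fun x => hcent' _ fun a ha =>
    (S.commutator_commutator fun g => hAZ g a ha).2 x
  obtain ⟨W, hW, hW'⟩ := S.exists_iso hA hI S.I_top le_top (fun x _ y _ => hc x y) h2
    (fun x _ => hsq x) fun u _ hu => hcent' u fun a ha => by
      have := commutator_mem_comm (hu a ha)
      rwa [h4, Subgroup.mem_bot] at this
  have hWs : ∀ μ, ∀ x ∈ W μ, x * x ∈ S.Z0 := by
    intro μ x hx
    obtain ⟨h1, -, h3, h5⟩ := hW μ
    rw [hZ] at h5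
    by_contra hxx
    obtain ⟨ψ, hψ⟩ := S.exists_crd A hA hI hne
    refine hxx (hZ ▸ mul_self_mem_sq (hcent' x fun a ha => ?_))
    have h6 : ∀ y ∈ W μ, y * y ∈ commMod ⊥ x := by
      intro y hy
      have hd := h5 x hx y hy
      have : ⁅x, y * y⁆ = ⁅x, y⁆ * (y * ⁅x, y⁆ * y⁻¹) := by
        simp only [commutatorElement_def]; group
      rw [mem_commMod, this, S.conj_eq hd, Subgroup.mem_bot]
      exact (S.mem_Z0 _).1 hd
    obtain ⟨y, hy, e⟩ := S.sq_surj hA hI h3 (fun x _ => hsq x) ⟨x, hx, hZ ▸ hxx⟩ hψ (ψ a)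
    obtain ⟨c, hc, e'⟩ := hA.exists_sqrt ((hψ.eq_iff (hsq y) ha).1 e)
    have := Subgroup.mul_mem _ (h6 y hy) (h6 c (h1 hc))
    rwa [e', mul_inv_cancel_left, mem_commMod, Subgroup.mem_bot] at this
  have hcm : ∀ x y : G, ⁅x, y⁆ ∈ S.Z0 := by
    intro x y
    refine hW' (commMod S.Z0 x) (fun μ z hz => ?_) (Subgroup.mem_top y)
    refine commutator_mem_comm (hW' (commMod S.Z0 z) (fun ν w hw => ?_) (Subgroup.mem_top x))
    exact S.commutator_covers hA hI hZ hcent hc (hW ν).2.2.1 (hW ν).1 (hWs ν) (hWs μ z hz) hw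
  refine ⟨le_antisymm ?_ S.Z0_le_center, hcm, fun x => ?_⟩
  · rw [← hZ]
    refine S.le_sq_of_lt hA hI S.I_center (lt_of_le_of_ne
      ((Subgroup.center_le_centralizer _).trans hcent) fun e => htop fun g _ => hcent ?_)
    exact Subgroup.mem_centralizer_iff.2 fun a ha =>
      (Subgroup.mem_center_iff.1 (e ▸ ha : a ∈ Subgroup.center G) g).symm
  · let T : Subgroup G :=
      { carrier := {x | x * x ∈ S.Z0}
        one_mem' := by simp
        mul_mem' := fun {a b} ha hb => by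
          rw [Set.mem_ofPred_eq, mul_sq_eq]
          exact Subgroup.mul_mem _ (Subgroup.mul_mem _ ha (hcm _ _)) hb
        inv_mem' := fun {a} ha => by
          rw [Set.mem_ofPred_eq, ← mul_inv_rev]; exact Subgroup.inv_mem _ ha }
    exact hW' T hWs (Subgroup.mem_top x)

end St

end Cfsg.Agent.Suz.Sol
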