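import Mathlib
import Cfsg.Agent.Suz.SolD
import Cfsg.Agent.S3360

/-! Suzuki `2`-groups with a solvable group of automorphisms, part 5: the set-up exists, by
Huppert's theorem on solvable transitive linear groups. -/

set_option autoImplicit false
set_option linter.style.haveILetI false
set_option linter.unusedSectionVars false

namespace Cfsg.Agent.Suz.Sol

open FM Hig
open scoped commutatorElement

section field

variable {F : Type*} [Field F] [Fintype F] [CharP F 2]

theorem exists_pow_lt {n : ℕ} (hn : Fintype.card F = 2 ^ n) (h0 : 0 < n) (σ : F ≃+* F) :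
    ∃ k < n, ∀ x, σ x = x ^ 2 ^ k := by
  obtain ⟨k, hk⟩ := exists_pow σ
  refine ⟨k % n, Nat.mod_lt _ h0, fun x => ?_⟩
  rw [hk]
  conv_lhs => rw [← Nat.div_add_mod k n, pow_add, pow_mul, pow_mul 2, ← hn,
    FiniteField.pow_card_pow]

theorem card_aut_dvd {n : ℕ} (hn : Fintype.card F = 2 ^ n) : Nat.card (F ≃+* F) ∣ n := by
  have h1 : ∀ (k : ℕ) (x : F), ((fr : F ≃+* F) ^ k) x = x ^ 2 ^ k := by
    intro k x
    induction k with
    | zero => simp
    | succ k ih =>
      rw [pow_succ', pow_succ, pow_mul, pow_two, ← ih, ← fr_apply]; rfl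
  rw [← orderOf_eq_card_of_forall_mem_zpowers (g := (fr : F ≃+* F)) fun σ => ?_]
  · apply orderOf_dvd_of_pow_eq_one
    ext x
    rw [h1, ← hn, FiniteField.pow_card]; rfl
  · obtain ⟨k, hk⟩ := exists_pow σ
    exact ⟨k, RingEquiv.ext fun x => by simp only [zpow_natCast]; rw [h1, hk]⟩

theorem p3_of_dvd {n : ℕ} (hn : Fintype.card F = 2 ^ n) (h2 : 2 ≤ n) (l : Fˣ)
    (h : 2 ^ n - 1 ∣ n * orderOf l) : P3 (l : F) := by
  refine ⟨l.ne_zero, fun σ τ ρ e => ?_⟩
  obtain ⟨a, ha, hσ⟩ := exists_pow_lt hn (by omega) σ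
  obtain ⟨b, hb, hτ⟩ := exists_pow_lt hn (by omega) τ
  obtain ⟨c, hc, hρ⟩ := exists_pow_lt hn (by omega) ρ
  rw [hσ, hτ, hρ, ← pow_add] at e
  have h1 : l ^ (2 ^ a + 2 ^ b) = l ^ 2 ^ c := Units.ext (by simpa using e)
  have h3 := nt h2 ha hb hc (((pow_eq_pow_iff_modEq.1 h1).mul_left' n).of_dvd h)
  ext x
  rw [hσ, hτ, h3]

/-- A transitive semilinear group contains a scalar of large order. -/
theorem exists_p3 {Y : Type*} [Group Y] [Finite Y] (h2 : 2 < Fintype.card F) (a : Y → F)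
    (σ : Y → F ≃+* F) (h1 : ∀ u, a 1 * σ 1 u = u)
    (hm : ∀ y y' u, a (y * y') * σ (y * y') u = a y * σ y (a y' * σ y' u))
    (htr : ∀ v, v ≠ 0 → ∃ y, a y = v) : ∃ ξ, (∀ x, σ ξ x = x) ∧ P3 (a ξ) := by
  classical
  obtain ⟨n, -, hn⟩ := FiniteField.card F 2
  have hn2 : 2 ≤ (n : ℕ) := by
    by_contra h
    have h3 : (n : ℕ) = 1 := by have := n.pos; omega
    rw [hn, h3] at h2
    omega
  have ha1 : a 1 = 1 := by simpa using h1 1
  have ham : ∀ y y', a (y * y') = a y * σ y (a y') := fun y y' => by simpa using hm y y' 1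
  have ha0 : ∀ y, a y ≠ 0 := fun y e => by
    have := ham y y⁻¹
    rw [mul_inv_cancel, ha1, e, zero_mul] at this
    exact one_ne_zero this
  let s : Y →* (F ≃+* F) := MonoidHom.mk' σ fun y y' => RingEquiv.ext fun u => by
    have := hm y y' u
    rw [ham, map_mul, ← mul_assoc] at this
    exact mul_left_cancel₀ (ham y y' ▸ ha0 (y * y')) this
  letI : MulAction Y F :=
    { smul := fun y u => a y * σ y u
      one_smul := h1
      mul_smul := hm }
  have hsm : ∀ (y : Y) (u : F), y • u = a y * σ y u := fun _ _ => rfl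
  have hker : ∀ y, y ∈ s.ker ↔ ∀ x, σ y x = x := fun y =>
    ⟨fun h x => RingEquiv.congr_fun h x, fun h => RingEquiv.ext h⟩
  let α : s.ker →* Fˣ := MonoidHom.mk' (fun y => Units.mk0 (a y) (ha0 y)) fun y y' =>
    Units.ext (by simp [ham, (hker _).1 y.2])
  obtain ⟨⟨_, ξ, rfl⟩, hξ⟩ := IsCyclic.exists_generator (α := α.range)
  refine ⟨ξ, (hker _).1 ξ.2, p3_of_dvd hn hn2 (α ξ) ?_⟩
  have h3 : (MulAction.stabilizer Y (1 : F)).index = 2 ^ (n : ℕ) - 1 := by
    rw [MulAction.index_stabilizer, ← hn]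
    have : MulAction.orbit Y (1 : F) = ({0} : Set F)ᶜ := by
      ext v
      constructor
      · rintro ⟨y, rfl⟩
        simpa [hsm] using ha0 y
      · intro hv
        obtain ⟨y, hy⟩ := htr v hv
        exact ⟨y, by simpa [hsm] using hy⟩
    rw [this, Set.ncard_compl, Set.ncard_singleton, Nat.card_eq_fintype_card]
  have h4 : (MulAction.stabilizer Y (1 : F)).relIndex s.ker = orderOf (α ξ) := by
    have : (MulAction.stabilizer Y (1 : F)).subgroupOf s.ker = α.ker := by
      ext y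
      rw [Subgroup.mem_subgroupOf, MulAction.mem_stabilizer_iff, MonoidHom.mem_ker, hsm, map_one,
        mul_one, Units.ext_iff]
      rfl
    rw [Subgroup.relIndex, this, Subgroup.index_ker, ← orderOf_eq_card_of_forall_mem_zpowers hξ]
    exact Subgroup.orderOf_mk _ _
  have h5 : s.ker.index ∣ n := by
    rw [Subgroup.index_ker]
    exact (Subgroup.card_subgroup_dvd_card _).trans (card_aut_dvd hn)
  rw [← h3, ← h4]
  refine (Subgroup.index_dvd_of_le (inf_le_left (b := s.ker))).trans ?_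
  rw [← Subgroup.relIndex_mul_index (inf_le_right (a := MulAction.stabilizer Y (1 : F))),
    Subgroup.inf_relIndex_right, mul_comm]
  exact Nat.mul_dvd_mul_right h5 _

end field

theorem exists_st {G : Type*} [Group G] [Finite G] (hG : IsPGroup 2 G)
    (htwo : ∃ x y : G, x ≠ y ∧ x ≠ 1 ∧ x ^ 2 = 1 ∧ y ≠ 1 ∧ y ^ 2 = 1) (Y : Subgroup (MulAut G))
    (hsol : Group.IsSolvable Y)
    (htr : ∀ x y : G, x ≠ 1 → x ^ 2 = 1 → y ≠ 1 → y ^ 2 = 1 → ∃ a ∈ Y, a x = y) :
    ∃ (F : Type) (_ : Field F) (_ : Fintype F) (_ : CharP F 2), Nonempty (St G F) := by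
  classical
  have hcen : ∀ z : G, z * z = 1 → ∀ g, z * g = g * z := fun z hz g =>
    (Subgroup.mem_center_iff.1 (OneClass.mem_center_of_transitive hG
      (fun x y h1 h2 h3 h4 => let ⟨a, _, e⟩ := htr x y h1 h2 h3 h4; ⟨a, e⟩) z
      (by rwa [pow_two])) g).symm
  let Z : Subgroup G :=
    { carrier := {x | x * x = 1}
      one_mem' := one_mul 1
      mul_mem' := fun {a b} ha hb => by
        rw [Set.mem_ofPred_eq] at *
        calc a * b * (a * b) = a * (b * a) * b := by group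
          _ = a * a * (b * b) := by rw [hcen b hb a]; group
          _ = 1 := by rw [ha, hb, one_mul]
      inv_mem' := fun {a} ha => by
        rw [Set.mem_ofPred_eq] at *
        rw [← mul_inv_rev, ha, inv_one] }
  have hZ : ∀ x, x ∈ Z ↔ x * x = 1 := fun _ => Iff.rfl
  have hZI : ∀ (y : MulAut G), ∀ x ∈ Z, y x ∈ Z := fun y x hx => by
    rw [hZ, ← map_mul, (hZ x).1 hx, map_one]
  obtain ⟨V, _, π, hπ⟩ := exists_isQuot (H := Z) (N := ⊥) bot_le fun x hx y _ => by
    rw [Subgroup.mem_bot, commutatorElement_eq_one_iff_mul_comm]; exact hcen x hx y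
  haveI := hπ.finite
  have hV := hπ.add_self fun x hx => hx
  have hπ0 : ∀ x ∈ Z, x ≠ 1 → π x ≠ 0 := fun x hx h1 e => h1 (by simpa using (hπ.eq_zero x hx).1 e)
  letI : Module (ZMod 2) V := AddCommGroup.zmodModule fun x => by rw [two_nsmul, hV]
  have hf : ∀ y : MulAut G, ∃ f : V →+ V, ∀ x ∈ Z, f (π x) = π (y x) := fun y =>
    hπ.exists_add (fun x => π (y x))
      (fun x hx x' hx' => by rw [map_mul, hπ.map_mul _ (hZI y x hx) _ (hZI y x' hx')])
      (fun x hx => by rw [Subgroup.mem_bot.1 hx, map_one, hπ.map_one])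
  choose f hf using hf
  let φ : Y →* Module.End (ZMod 2) V :=
    { toFun := fun y => (f y).toZModLinearMap 2
      map_one' := LinearMap.ext fun v => by
        obtain ⟨x, hx, rfl⟩ := hπ.surj v
        exact hf _ x hx
      map_mul' := fun y y' => LinearMap.ext fun v => by
        obtain ⟨x, hx, rfl⟩ := hπ.surj v
        change f _ (π x) = f y (f y' (π x))
        rw [hf _ x hx, hf _ x hx, hf _ _ (hZI _ x hx)]; rfl }
  let ρ : Y →* (V ≃ₗ[ZMod 2] V) :=
    (LinearMap.GeneralLinearGroup.generalLinearEquiv (ZMod 2) V).toMonoidHom.comp φ.toHomUnits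
  have hρ : ∀ (y : Y), ∀ x ∈ Z, ρ y (π x) = π ((y : MulAut G) x) := fun y x hx => hf _ x hx
  obtain ⟨x₁, x₂, h12, h1, h1', h2, h2'⟩ := htwo
  have hx₁ : x₁ ∈ Z := by rwa [hZ, ← pow_two]
  have hx₂ : x₂ ∈ Z := by rwa [hZ, ← pow_two]
  haveI : Nontrivial V := ⟨_, _, hπ0 x₁ hx₁ h1⟩
  have htr' : ∀ v w : V, v ≠ 0 → w ≠ 0 → ∃ y : Y, ρ y v = w := by
    intro v w hv hw
    obtain ⟨x, hx, rfl⟩ := hπ.surj v
    obtain ⟨z, hz, rfl⟩ := hπ.surj w
    obtain ⟨y, hy, e⟩ := htr x z (fun e => hv (by rw [e, hπ.map_one])) (by rwa [pow_two])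
      (fun e => hw (by rw [e, hπ.map_one])) (by rwa [pow_two])
    exact ⟨⟨y, hy⟩, by rw [hρ _ x hx, ← e]⟩
  haveI : Finite ρ.range := Finite.of_surjective _ ρ.rangeRestrict_surjective
  rcases S3360.result 2 (G := ρ.range) (Group.isSolvable_of_surjective ρ.rangeRestrict_surjective)
    ρ.range.subtype Subtype.val_injective (fun v w hv hw => by
      obtain ⟨y, e⟩ := htr' v w hv hw
      exact ⟨⟨_, y, rfl⟩, e⟩) with ⟨F, _, _, e, he⟩ | h
  · haveI : CharP F 2 := (CharP.charP_iff_prime_eq_zero Nat.prime_two).2 (by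
      have := congrArg e (hV (e.symm 1))
      rw [map_add, e.apply_symm_apply, map_zero] at this
      rw [← this]; norm_num)
    choose a σ hσ using fun y : Y => he ⟨_, y, rfl⟩
    replace hσ : ∀ (y : Y) v, e (ρ y v) = a y * σ y (e v) := hσ
    have hq : 2 < Fintype.card F := Fintype.two_lt_card_iff.2
      ⟨0, e (π x₁), e (π x₂), ((map_ne_zero_iff e e.injective).2 (hπ0 x₁ hx₁ h1)).symm,
        ((map_ne_zero_iff e e.injective).2 (hπ0 x₂ hx₂ h2)).symm, fun h => h12 (by
          have := (hπ.eq_iff hx₁ hx₂).1 (e.injective h)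
          rwa [Subgroup.mem_bot, inv_mul_eq_one] at this)⟩
    have htr'' : ∀ u v : F, u ≠ 0 → v ≠ 0 → ∃ y : Y, a y * σ y u = v := by
      intro u v hu hv
      obtain ⟨y, hy⟩ := htr' (e.symm u) (e.symm v) (by simpa) (by simpa)
      exact ⟨y, by rw [← e.apply_symm_apply u, ← hσ, hy, e.apply_symm_apply]⟩
    obtain ⟨ξ, hξ, hP⟩ := exists_p3 hq a σ (fun u => by
        rw [← e.apply_symm_apply u, ← hσ, map_one]; rfl) (fun y y' u => by
        rw [← e.apply_symm_apply u, ← hσ, ← hσ, ← hσ, map_mul]; rfl)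
      fun v hv => by simpa using htr'' 1 v one_ne_zero hv
    refine ⟨F, inferInstance, inferInstance, inferInstance, ⟨
      { Y := Y
        a := fun y => if h : y ∈ Y then a ⟨y, h⟩ else 1
        σ := fun y => if h : y ∈ Y then σ ⟨y, h⟩ else RingEquiv.refl F
        ψ := fun x => e (π x)
        ξ := ξ
        Z0 := Z
        pgroup := hG
        two_lt := hq
        central := hcen
        mem_Z0 := hZ
        quot := ⟨bot_le, fun x hx y hy => by rw [hπ.map_mul x hx y hy, map_add],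
          fun x hx => by rw [map_eq_zero_iff e e.injective, hπ.eq_zero x hx], fun c => ?_⟩
        equiv := fun y hy x hx => by rw [dif_pos hy, dif_pos hy, ← hσ, hρ _ x hx]
        trans := fun u v hu hv => ?_
        ξ_mem := ξ.2
        σ_ξ := fun x => by rw [dif_pos ξ.2]; exact hξ x
        p3 := by rw [dif_pos ξ.2]; exact hP }⟩⟩
    · obtain ⟨x, hx, h⟩ := hπ.surj (e.symm c)
      exact ⟨x, hx, by rw [h, e.apply_symm_apply]⟩
    · obtain ⟨y, hy⟩ := htr'' u v hu hv
      exact ⟨y, y.2, by rw [dif_pos y.2, dif_pos y.2]; exact hy⟩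
  · exfalso
    have h3 : 2 ∣ Nat.card V := by
      have : addOrderOf (π x₁) = 2 :=
        addOrderOf_eq_prime (by rw [two_nsmul, hV]) (hπ0 x₁ hx₁ h1)
      rw [← this]; exact addOrderOf_dvd_natCard _
    simp only [Set.mem_insert_iff, Set.mem_singleton_iff] at h
    omega

end Cfsg.Agent.Suz.Sol
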