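import Mathlib
import Cfsg.Agent.Suz.OneClassA
import Cfsg.Agent.Suz.HigAbel

/-! `2`-groups with a group of automorphisms transitive on the involutions: the action on invariant
subgroups of exponent `4`, and Thompson's theorem on solvable groups with one class of
involutions. -/

set_option autoImplicit false
set_option linter.style.haveILetI false

namespace Cfsg.Agent.Suz.OneClass

open Subgroup Hig
open scoped commutatorElement Pointwise

section Quad

variable {U V : Type*} [AddCommGroup U] [AddCommGroup V] [Finite U] [Finite V]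

/-- A Gauss sum argument: an anisotropic, equidistributed quadratic map `U → V` with
`|U| = |V| ^ 2` has a polar form all of whose components are nondegenerate. -/
theorem surjective_of_fibers (hV : ∀ v : V, v + v = 0) (Q : U → V) (b : U →+ U →+ V)
    (hQ : ∀ x y, Q (x + y) = Q x + Q y + b x y) (han : ∀ x, Q x = 0 → x = 0)
    (hfib : ∀ v v' : V, v ≠ 0 → v' ≠ 0 → ∃ e : U ≃ U, ∀ u, Q u = v ↔ Q (e u) = v')
    (hcard : Nat.card U = Nat.card V ^ 2) {w : U} (hw : w ≠ 0) :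
    Function.Surjective (b.flip w) := by
  classical
  have := Fintype.ofFinite U
  have := Fintype.ofFinite V
  have hQ0 : Q 0 = 0 := by simpa [hV] using hQ 0 0
  by_contra hs
  simp only [Function.Surjective, not_forall, not_exists] at hs
  obtain ⟨v₀, hv₀⟩ := hs
  obtain ⟨ψ, hψ⟩ := (AddChar.exists_apply_ne_zero (a := (v₀ : V ⧸ (b.flip w).range))).2
    (fun e => by
      obtain ⟨u, hu⟩ := (QuotientAddGroup.eq_zero_iff _).1 e
      exact hv₀ u hu)
  let χ : AddChar V ℂ := ψ.compAddMonoidHom (QuotientAddGroup.mk' _)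
  have hχ : χ ≠ 0 := fun e => hψ (by
    have : χ v₀ = 1 := by rw [e]; rfl
    exact this)
  have hχw : ∀ u, χ (b u w) = 1 := fun u => by
    have : ((b u w : V) : V ⧸ (b.flip w).range) = 0 := (QuotientAddGroup.eq_zero_iff _).2 ⟨u, rfl⟩
    change ψ ((b u w : V) : V ⧸ (b.flip w).range) = 1
    rw [this, AddChar.map_zero_eq_one]
  have hw' : Q w ≠ 0 := fun e => hw (han w e)
  set c : ℕ := Fintype.card {u // Q u = Q w} with hc
  have hsum : ∀ f : V → ℂ, ∑ u, f (Q u) = f 0 + c * (∑ v, f v - f 0) := by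
    intro f
    rw [← Fintype.sum_fiberwise' Q f, ← Finset.add_sum_erase _ _ (Finset.mem_univ (0 : V)),
      ← Finset.add_sum_erase _ f (Finset.mem_univ (0 : V)), add_sub_cancel_left, Finset.mul_sum]
    congr 1
    · have : Unique {u // Q u = 0} := ⟨⟨⟨0, hQ0⟩⟩, fun u => Subtype.ext (han _ u.2)⟩
      simp
    · refine Finset.sum_congr rfl fun v hv => ?_
      obtain ⟨e, he⟩ := hfib v (Q w) (Finset.ne_of_mem_erase hv) hw'
      rw [Finset.sum_const, Finset.card_univ, nsmul_eq_mul, hc,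
        Fintype.card_congr (e.subtypeEquiv (q := fun u => Q u = Q w) he)]
  obtain ⟨q, hq⟩ : ∃ q : ℂ, q = (Fintype.card V : ℕ) := ⟨_, rfl⟩
  have hU : (Fintype.card U : ℂ) = q ^ 2 := by
    rw [hq, ← Nat.card_eq_fintype_card, hcard, Nat.card_eq_fintype_card]; push_cast; rfl
  have hq1 : q - 1 ≠ 0 := by
    have : Nontrivial V := ⟨_, _, hw'⟩
    rw [sub_ne_zero, hq]
    exact_mod_cast Fintype.one_lt_card.ne'
  have hq0 : q ≠ 0 := by rw [hq]; exact_mod_cast Fintype.card_ne_zero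
  have h1 : (c : ℂ) = q + 1 := by
    have := hsum fun _ => 1
    simp only [Finset.sum_const, Finset.card_univ, nsmul_eq_mul, mul_one, hU, ← hq] at this
    exact mul_right_cancel₀ hq1 (by linear_combination -this)
  have h2 : ∑ u, χ (Q u) = -q := by
    rw [hsum, AddChar.sum_eq_zero_iff_ne_zero.2 hχ, AddChar.map_zero_eq_one, h1]; ring
  let R : Finset U := {x | ∀ u, χ (b u x) = 1}
  have h3 : ∀ x ∈ R, χ (Q x) = 1 := by
    intro x hx
    have h4 : ∑ u, χ (Q (u + x)) = ∑ u, χ (Q u) :=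
      Fintype.sum_equiv (Equiv.addRight x) _ _ fun _ => rfl
    simp only [hQ, AddChar.map_add_eq_mul, (Finset.mem_filter.1 hx).2, mul_one,
      ← Finset.sum_mul, h2] at h4
    exact mul_left_cancel₀ (neg_ne_zero.2 hq0) (h4.trans (mul_one _).symm)
  have h5 : (∑ u, χ (Q u)) * ∑ u, χ (Q u) = ∑ x ∈ R, q ^ 2 := by
    rw [Finset.sum_mul]
    have h6 : ∀ u, χ (Q u) * ∑ x, χ (Q x) = ∑ x, χ (Q x) * χ (b u x) := by
      intro u
      rw [← Fintype.sum_equiv (Equiv.addLeft u) (fun x => χ (Q (u + x))) _ fun _ => rfl,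
        Finset.mul_sum]
      refine Finset.sum_congr rfl fun x _ => ?_
      rw [hQ, ← AddChar.map_add_eq_mul, ← add_assoc, ← add_assoc, hV, zero_add,
        AddChar.map_add_eq_mul]
    simp only [h6]
    rw [Finset.sum_comm, Finset.sum_filter]
    refine Finset.sum_congr rfl fun x _ => ?_
    rw [← Finset.mul_sum]
    have h7 := (χ.compAddMonoidHom (b.flip x)).sum_eq_ite
    change ∑ u, χ (b u x) = _ at h7
    rw [h7]
    by_cases h8 : ∀ u, χ (b u x) = 1
    · rw [if_pos h8, if_pos (by ext u; exact h8 u), h3 x (by simpa [R] using h8), one_mul, hU]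
    · rw [if_neg h8, if_neg (fun e => h8 fun u => by
        have : (χ.compAddMonoidHom (b.flip x)) u = 1 := by rw [e]; rfl
        exact this), mul_zero]
  rw [h2, Finset.sum_const, nsmul_eq_mul] at h5
  have h9 : (R.card : ℂ) = 1 :=
    mul_right_cancel₀ (pow_ne_zero 2 hq0) (by linear_combination -h5)
  have h10 : R.card = 1 := by exact_mod_cast h9
  exact hw (Finset.card_le_one.1 h10.le w (by simpa [R] using hχw) 0 (by simp [R]))

theorem false_of_action {S : Type*} [Group S] [DistribMulAction S U] (Q : U → V) (b : U →+ U →+ V)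
    (hQ : ∀ x y, Q (x + y) = Q x + Q y + b x y)
    (hb : ∀ w : U, w ≠ 0 → Function.Surjective (b.flip w))
    (hcard : Nat.card U = Nat.card V ^ 2) (h2 : 2 < Nat.card V)
    (hinv : ∀ (s : S) u, Q (s • u) = Q u) {W : AddSubgroup U} (hW : W.index = Nat.card V)
    (h1 : ∀ (s : S) u, s • u - u ∈ W) (h1' : ∀ (s : S), ∀ w ∈ W, s • w = w) {M : Subgroup S}
    (hM : ∀ s : S, s ∈ M ↔ ∀ u : U, s • u = u) (hM' : Nat.card V ≤ M.index) : False := by
  have hWc : Nat.card W = Nat.card V := by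
    have := W.card_mul_index
    rw [hW, hcard, pow_two] at this
    exact Nat.eq_of_mul_eq_mul_right (by omega) this
  have hbi : ∀ (s : S) u u', b (s • u) (s • u') = b u u' := by
    intro s u u'
    have := hinv s (u + u')
    rwa [smul_add, hQ, hQ, hinv, hinv, add_right_inj] at this
  have hfix : ∀ (s : S) u u', s • u = u → b u (s • u' - u') = 0 := by
    intro s u u' h
    rw [map_sub, sub_eq_zero, ← hbi s u u', h]
  have hker : ∀ (s : S) u', s • u' - u' ≠ 0 → (b.flip (s • u' - u')).ker = W := by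
    intro s u' h
    refine (AddSubgroup.eq_of_le_of_card_ge (fun w hw => hfix s w u' (h1' s w hw)) ?_).symm
    have h3 := (b.flip (s • u' - u')).ker.card_mul_index
    rw [AddSubgroup.index_ker, AddMonoidHom.range_eq_top.2 (hb _ h), AddSubgroup.card_top, hcard,
      pow_two] at h3
    rw [hWc]
    exact (Nat.eq_of_mul_eq_mul_right (by omega) h3).le
  have hall : ∀ u ∉ W, ∀ w ∈ W, Q w + b u w = 0 := by
    intro u hu w hw
    have h3 : MulAction.stabilizer S u = M := by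
      refine le_antisymm (fun s hs => ?_) fun s hs => (hM s).1 hs u
      by_contra h4
      rw [hM, not_forall] at h4
      obtain ⟨u', h4⟩ := h4
      exact hu (hker s u' (sub_ne_zero.2 h4) ▸ hfix s u u' hs)
    have h4 : MulAction.orbit S u = (fun x => u + x) '' (W : Set U) := by
      refine Set.eq_of_subset_of_ncard_le ?_ ?_
      · rintro _ ⟨s, rfl⟩
        exact ⟨_, h1 s u, by simp⟩
      · rw [← MulAction.index_stabilizer, h3, Set.ncard_image_of_injective _ (add_right_injective u),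
          ← Nat.card_coe_set_eq]
        exact hWc.le.trans hM'
    obtain ⟨s, hs⟩ : u + w ∈ MulAction.orbit S u := h4 ▸ ⟨w, hw, rfl⟩
    have h5 := hinv s u
    rw [show s • u = u + w from hs, hQ, add_assoc] at h5
    exact add_eq_left.1 h5
  obtain ⟨s, hs⟩ : ∃ s, s ∉ M := by
    by_contra h
    push Not at h
    rw [(eq_top_iff' M).2 h, index_top] at hM'
    omega
  rw [hM, not_forall] at hs
  obtain ⟨u, hu⟩ := hs
  have h3 : (Set.univ : Set V) ⊆ {0, -Q (s • u - u)} := by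
    intro v _
    obtain ⟨x, rfl⟩ := hb _ (sub_ne_zero.2 hu) v
    by_cases hx : x ∈ W
    · exact Or.inl (hfix s x u (h1' s x hx))
    · exact Or.inr (eq_neg_of_add_eq_zero_right (hall x hx _ (h1 s u)))
  have h4 := (Set.ncard_le_ncard h3).trans (Set.ncard_insert_le _ _)
  rw [Set.ncard_univ, Set.ncard_singleton] at h4
  omega

end Quad

universe u

variable {G : Type u} [Group G]

/-- `Y` is transitive on the involutions. -/
def TransInv (Y : Subgroup (MulAut G)) : Prop :=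
  ∀ x y : G, x ≠ 1 → x ^ 2 = 1 → y ≠ 1 → y ^ 2 = 1 → ∃ a ∈ Y, a x = y

/-- `X` is invariant under `Y`. -/
def YInv (Y : Subgroup (MulAut G)) (X : Subgroup G) : Prop := ∀ a ∈ Y, ∀ x ∈ X, a x ∈ X

variable {Y : Subgroup (MulAut G)}

theorem YInv.inf {A B : Subgroup G} (hA : YInv Y A) (hB : YInv Y B) : YInv Y (A ⊓ B) :=
  fun a ha x hx => ⟨hA a ha x hx.1, hB a ha x hx.2⟩

theorem yInv_top : YInv Y ⊤ := fun _ _ _ _ => mem_top _

theorem yInv_char (A : Subgroup G) [hA : A.Characteristic] : YInv Y A :=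
  fun a _ _ hx => characteristic_iff_le_comap.1 hA a hx

theorem YInv.secStab {A B : Subgroup G} [A.Normal] [B.Normal] (hA : YInv Y A) (hB : YInv Y B) :
    YInv Y (PLocal.secStab A B) := by
  intro a ha g hg x hx
  have := hB a ha _ (hg _ (hA a⁻¹ (inv_mem ha) x hx))
  simpa using this

theorem TransInv.mem_center [Finite G] (hY : TransInv Y) (hG : IsPGroup 2 G) (x : G)
    (hx : x ^ 2 = 1) : x ∈ center G :=
  mem_center_of_transitive hG (fun x y h1 h2 h3 h4 => (hY x y h1 h2 h3 h4).imp fun _ h => h.2) x hx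

theorem TransInv.exists_omega [Finite G] (hY : TransInv Y) (hG : IsPGroup 2 G) :
    ∃ V : Subgroup G, V.Characteristic ∧ (∀ x, x ∈ V ↔ x ^ 2 = 1) ∧ V ≤ center G := by
  have hcen := hY.mem_center hG
  refine ⟨{ carrier := {x | x ^ 2 = 1}
            one_mem' := one_pow 2
            mul_mem' := fun {a b} ha hb => ?_
            inv_mem' := fun {a} ha => ?_ },
    characteristic_iff_le_comap.2 fun a y hy => ?_, fun _ => Iff.rfl, fun x hx => hcen x hx⟩
  · rw [Set.mem_ofPred_eq] at *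
    rw [Commute.mul_pow (mem_center_iff.1 (hcen b hb) a), ha, hb, one_mul]
  · rw [Set.mem_ofPred_eq] at *
    rw [inv_pow, ha, inv_one]
  · change (a y) ^ 2 = 1
    rw [← map_pow, show y ^ 2 = 1 from hy, map_one]

theorem TransInv.le_of_ne_bot [Finite G] (hY : TransInv Y) (hG : IsPGroup 2 G) {V X : Subgroup G}
    (hV : ∀ x, x ∈ V ↔ x ^ 2 = 1) (hX : YInv Y X) (h : X ≠ ⊥) : V ≤ X := by
  obtain ⟨x, hx, h1, h2⟩ := exists_pow_ne_one (dvd_card_of_ne_bot (hG.to_subgroup X) h)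
  intro y hy
  by_cases hy1 : y = 1
  · rw [hy1]; exact one_mem _
  obtain ⟨a, ha, rfl⟩ := hY x y h1 h2 hy1 ((hV y).1 hy)
  exact hX a ha x hx

theorem TransInv.card_eq_pow [Finite G] (hY : TransInv Y) (hG : IsPGroup 2 G) {V X : Subgroup G}
    (hV : ∀ x, x ∈ V ↔ x ^ 2 = 1) (hX : YInv Y X) : ∃ m : ℕ, Nat.card X = Nat.card V ^ m := by
  by_cases h : X = ⊥
  · exact ⟨0, by rw [h]; simp⟩
  have hVX := hY.le_of_ne_bot hG hV hX h
  have : Nontrivial X := (Subgroup.nontrivial_iff_ne_bot _).2 h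
  obtain ⟨m, hm⟩ := card_eq_pow_of_transitive (hG.to_subgroup X) fun x y h1 h2 h3 h4 => by
    obtain ⟨a, ha, e⟩ := hY x y (fun e => h1 (Subtype.ext e)) (congrArg Subtype.val h2)
      (fun e => h3 (Subtype.ext e)) (congrArg Subtype.val h4)
    exact ⟨{ toFun := fun z => ⟨a z, hX a ha _ z.2⟩
             invFun := fun z => ⟨a⁻¹ z, hX a⁻¹ (inv_mem ha) _ z.2⟩
             left_inv := fun z => Subtype.ext (by simp)
             right_inv := fun z => Subtype.ext (by simp)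
             map_mul' := fun z w => Subtype.ext (by simp) }, Subtype.ext e⟩
  refine ⟨m, hm.trans ?_⟩
  congr 1
  exact Nat.card_congr
    { toFun := fun z => ⟨z.1.1, (hV _).2 (congrArg Subtype.val z.2)⟩
      invFun := fun v => ⟨⟨v.1, hVX v.2⟩, Subtype.ext ((hV _).1 v.2)⟩
      left_inv := fun _ => rfl
      right_inv := fun _ => rfl }

theorem card_lt_of_lt [Finite G] {A B : Subgroup G} (h : A < B) : Nat.card A < Nat.card B :=
  lt_of_le_of_ne (card_le_of_le h.le) fun e => h.ne (eq_of_le_of_card_ge h.le e.ge)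

/-- The squaring map of an invariant subgroup of exponent `4` in coordinates. -/
theorem TransInv.exists_quad [Finite G] (hY : TransInv Y) (hG : IsPGroup 2 G) {V T : Subgroup G}
    (hV : ∀ x, x ∈ V ↔ x ^ 2 = 1) (hVT : V ≤ T) (hT : YInv Y T) (h4 : ∀ t ∈ T, t ^ 4 = 1) :
    ∃ (U V' : Type u) (_ : AddCommGroup U) (_ : AddCommGroup V') (_ : Finite U) (_ : Finite V')
      (π : G → U) (ψ : G → V') (Q : U → V') (b : U →+ U →+ V'), IsQuot T V π ∧ IsQuot V ⊥ ψ ∧
      (∀ u : U, u + u = 0) ∧ (∀ v : V', v + v = 0) ∧ (∀ t ∈ T, Q (π t) = ψ (t * t)) ∧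
      (∀ x ∈ T, ∀ y ∈ T, b (π x) (π y) = ψ ⁅x, y⁆) ∧
      (∀ x y, Q (x + y) = Q x + Q y + b x y) ∧ (∀ x, Q x = 0 → x = 0) ∧
      (∀ v v' : V', v ≠ 0 → v' ≠ 0 → ∃ e : U ≃ U, ∀ u, Q u = v ↔ Q (e u) = v') ∧
      Nat.card V' = Nat.card V ∧ Nat.card T = Nat.card U * Nat.card V ∧
      Nat.card U ≤ Nat.card V ^ 2 := by
  have hcen : ∀ v ∈ V, ∀ g, g * v = v * g := fun v hv g =>
    mem_center_iff.1 (hY.mem_center hG v ((hV v).1 hv)) g
  have hsq : ∀ t ∈ T, t * t ∈ V := fun t ht => by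
    rw [hV, ← pow_two, ← pow_mul]; exact h4 t ht
  have hcomm : ∀ x ∈ T, ∀ y ∈ T, ⁅x, y⁆ ∈ V := by
    intro x hx y hy
    have h1 := mul_sq_eq x⁻¹ y
    rw [inv_inv] at h1
    have h2 : ⁅x, y⁆ = (x⁻¹ * x⁻¹)⁻¹ * (x⁻¹ * y * (x⁻¹ * y)) * (y * y)⁻¹ := by rw [h1]; group
    rw [h2]
    exact mul_mem (mul_mem (inv_mem (hsq _ (inv_mem hx))) (hsq _ (mul_mem (inv_mem hx) hy)))
      (inv_mem (hsq _ hy))
  have hc1 : ∀ g : G, ∀ v ∈ V, ⁅g, v⁆ = 1 := fun g v hv =>
    commutatorElement_eq_one_iff_mul_comm.2 (hcen v hv g)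
  obtain ⟨U, _, π, hπ⟩ := exists_isQuot hVT hcomm
  obtain ⟨V', _, ψ, hψ⟩ := exists_isQuot (bot_le (a := V)) fun x _ y hy => hc1 x y hy
  have := hπ.finite
  have := hψ.finite
  obtain ⟨b, hb⟩ := exists_comm_biadd hπ hπ hψ hc1 hcomm
    (fun x hx y _ => commutatorElement_eq_one_iff_mul_comm.2 (hcen x hx y).symm)
    (fun x _ y hy => hc1 x y hy)
  have hU2 : ∀ u : U, u + u = 0 := hπ.add_self hsq
  have hV2 : ∀ v : V', v + v = 0 := hψ.add_self fun x hx => by
    rw [← pow_two]; exact (hV x).1 hx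
  choose σ hσ hσ' using hπ.surj
  have hQ1 : ∀ t ∈ T, ψ (σ (π t) * σ (π t)) = ψ (t * t) := by
    intro t ht
    have h1 := (hπ.eq_iff ht (hσ _)).1 (hσ' (π t)).symm
    have h2 : σ (π t) = t * (t⁻¹ * σ (π t)) := by group
    generalize t⁻¹ * σ (π t) = v at h1 h2
    have h3 : v * v = 1 := by rw [← pow_two]; exact (hV v).1 h1
    rw [h2]
    congr 1
    calc t * v * (t * v) = t * (v * t) * v := by group
      _ = t * t * (v * v) := by rw [← hcen v h1 t]; group
      _ = t * t := by rw [h3, mul_one]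
  have hQ : ∀ x y, ψ (σ (x + y) * σ (x + y)) = ψ (σ x * σ x) + ψ (σ y * σ y) + b x y := by
    intro x y
    obtain ⟨x, hx, rfl⟩ := hπ.surj x
    obtain ⟨y, hy, rfl⟩ := hπ.surj y
    have h1 : π x = π x⁻¹ := by rw [hπ.map_inv' hx, eq_neg_iff_add_eq_zero, hU2]
    rw [← hπ.map_mul x hx y hy, hQ1 _ hx, hQ1 _ hy, hQ1 _ (mul_mem hx hy), mul_sq_eq,
      hψ.map_mul _ (mul_mem (hsq x hx) (hcomm _ (inv_mem hx) _ hy)) _ (hsq y hy),
      hψ.map_mul _ (hsq x hx) _ (hcomm _ (inv_mem hx) _ hy), h1, hb _ (inv_mem hx) _ hy]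
    abel
  have han : ∀ x, ψ (σ x * σ x) = 0 → x = 0 := by
    intro x hx
    rw [hψ.eq_zero _ (hsq _ (hσ x)), mem_bot, ← pow_two, ← hV] at hx
    rw [← hσ' x, hπ.map_of_mem hx]
  have hV' : Nat.card V' = Nat.card V := by rw [hψ.card]; simp
  refine ⟨U, V', inferInstance, inferInstance, inferInstance, inferInstance, π, ψ,
    fun u => ψ (σ u * σ u), b, hπ, hψ, hU2, hV2, hQ1, hb, hQ, han, fun v v' hv hv' => ?_, hV',
    hπ.card, hV' ▸ FM.card_le_sq_of_anisotropic hU2 hV2 _ b hQ han⟩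
  obtain ⟨x, hx, rfl⟩ := hψ.surj v
  obtain ⟨y, hy, rfl⟩ := hψ.surj v'
  obtain ⟨a, ha, rfl⟩ := hY x y (fun e => hv (by rw [e, hψ.map_one])) ((hV x).1 hx)
    (fun e => hv' (by rw [e, hψ.map_one])) ((hV y).1 hy)
  have haV : ∀ t, a t ∈ V ↔ t ∈ V := fun t => by
    rw [hV, hV, ← map_pow, MulEquiv.map_eq_one_iff]
  obtain ⟨A, hA⟩ := hπ.exists_add (fun t => π (a t))
    (fun x hx y hy => by rw [map_mul, hπ.map_mul _ (hT a ha x hx) _ (hT a ha y hy)])
    (fun x hx => hπ.map_of_mem ((haV x).2 hx))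
  have hinj : Function.Injective A := by
    rw [injective_iff_map_eq_zero]
    intro u hu
    obtain ⟨t, ht, rfl⟩ := hπ.surj u
    rw [hA t ht, hπ.eq_zero _ (hT a ha t ht), haV] at hu
    exact hπ.map_of_mem hu
  refine ⟨Equiv.ofBijective A (Finite.injective_iff_bijective.1 hinj), fun u => ?_⟩
  obtain ⟨t, ht, rfl⟩ := hπ.surj u
  change ψ (σ (π t) * σ (π t)) = _ ↔ ψ (σ (A (π t)) * σ (A (π t))) = _
  rw [hA t ht, hQ1 _ ht, hQ1 _ (hT a ha t ht), hψ.eq_iff (hsq t ht) hx,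
    hψ.eq_iff (hsq _ (hT a ha t ht)) hy, mem_bot, mem_bot, ← map_mul, ← map_inv, ← map_mul,
    MulEquiv.map_eq_one_iff]

/-- An invariant normal subgroup of exponent `4` is central modulo the involutions. -/
theorem TransInv.commutator_mem [Finite G] (hY : TransInv Y) (hG : IsPGroup 2 G) {V T : Subgroup G}
    (hV : ∀ x, x ∈ V ↔ x ^ 2 = 1) (h2 : 2 < Nat.card V) [hTn : T.Normal] (hT : YInv Y T)
    (h4 : ∀ t ∈ T, t ^ 4 = 1) : ∀ g : G, ∀ t ∈ T, ⁅g, t⁆ ∈ V := by
  by_cases hT1 : T = ⊥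
  · intro g t ht
    rw [hT1, mem_bot] at ht
    simp [ht]
  have hVT := hY.le_of_ne_bot hG hV hT hT1
  obtain ⟨V₀, hV₀, hV₀', hVc⟩ := hY.exists_omega hG
  obtain rfl : V₀ = V := by ext x; rw [hV, hV₀']
  have hVi : YInv Y V₀ := yInv_char V₀
  obtain ⟨U, V', _, _, _, _, π, ψ, Q, b, hπ, hψ, hU2, hV2, hQ1, hb, hQ, han, hfib, hV', hcT, hle⟩ :=
    hY.exists_quad hG hV hVT hT h4
  by_contra hcon
  have := hG.isNilpotent
  have hsw : ∀ {N : Subgroup G} [N.Normal] {u : G}, (∀ g : G, ⁅u, g⁆ ∈ N) → u ∈ PLocal.secStab ⊤ N :=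
    fun h g _ => h g
  set W := T ⊓ PLocal.secStab ⊤ V₀ with hW
  set M := PLocal.secStab T V₀ with hM
  have hWi : YInv Y W := hT.inf (yInv_top.secStab hVi)
  have hc1 : ∀ v ∈ V₀, ∀ g : G, ⁅v, g⁆ = 1 := fun v hv g =>
    commutatorElement_eq_one_iff_mul_comm.2 (mem_center_iff.1 (hVc hv) g).symm
  have hVW : V₀ ≤ W := fun v hv => ⟨hVT hv, hsw fun g => by rw [hc1 v hv]; exact one_mem _⟩
  have hTW : ¬ T ≤ W := fun h => hcon fun g t ht => commutator_mem_comm ((h ht).2 g (mem_top g))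
  have h5 : V₀ < W := by
    obtain ⟨u, hu, hu1, hu2⟩ := Grp.PChain.exists_central_mod T V₀ fun h => hTW (h.trans hVW)
    exact lt_of_le_of_ne hVW fun e => hu1 (e ▸ ⟨hu, hsw hu2⟩)
  have h6 : W < T ⊓ PLocal.secStab ⊤ W := by
    obtain ⟨u, hu, hu1, hu2⟩ := Grp.PChain.exists_central_mod T W hTW
    refine lt_of_le_of_ne (fun w hw => ⟨hw.1, hsw fun g => hVW (hw.2 g (mem_top g))⟩)
      fun e => hu1 (e ▸ ⟨hu, hsw hu2⟩)
  obtain ⟨c, hc⟩ := hY.card_eq_pow hG hV hWi
  obtain ⟨d, hd⟩ := hY.card_eq_pow hG hV (hT.inf (yInv_top.secStab hWi))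
  obtain ⟨e, he⟩ := hY.card_eq_pow hG hV (hT.secStab hVi)
  obtain ⟨f, hf⟩ := hY.card_eq_pow hG hV yInv_top
  have hq : 1 < Nat.card V₀ := by omega
  have h7 := card_lt_of_lt h5
  have h8 := card_lt_of_lt h6
  have h9 : Nat.card ↥(T ⊓ PLocal.secStab ⊤ W) ≤ Nat.card T := card_le_of_le inf_le_left
  have h10 : Nat.card T ≤ Nat.card V₀ ^ 3 := by
    rw [hcT, pow_succ]; exact Nat.mul_le_mul_right _ hle
  rw [hc] at h7
  rw [hc, hd, Nat.pow_lt_pow_iff_right hq] at h8
  have h11 : 1 < c := (Nat.pow_lt_pow_iff_right hq).1 (by rwa [pow_one])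
  have h12 : d ≤ 3 := (Nat.pow_le_pow_iff_right hq).1 (hd ▸ h9.trans h10)
  obtain rfl : c = 2 := by omega
  obtain rfl : d = 3 := by omega
  have h13 : T ⊓ PLocal.secStab ⊤ W = T := eq_of_le_of_card_ge inf_le_left (hd ▸ h10)
  have h14 : Nat.card T = Nat.card V₀ ^ 3 := h13 ▸ hd
  have hU : Nat.card U = Nat.card V' ^ 2 := by
    rw [hV']
    exact Nat.eq_of_mul_eq_mul_right (by omega) (hcT.symm.trans (h14.trans (pow_succ _ _)))
  have hA : ∀ g : G, ∃ A : U →+ U, ∀ t ∈ T, A (π t) = π (g * t * g⁻¹) := fun g =>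
    hπ.exists_add (fun t => π (g * t * g⁻¹))
      (fun x hx y hy => by
        rw [← hπ.map_mul _ (hTn.conj_mem x hx g) _ (hTn.conj_mem y hy g), conj_mul])
      (fun x hx => hπ.map_of_mem (Subgroup.Normal.conj_mem inferInstance x hx g))
  choose A hA using hA
  letI : DistribMulAction G U :=
    { smul := fun g u => A g u
      one_smul := fun u => by
        obtain ⟨t, ht, rfl⟩ := hπ.surj u
        change A 1 _ = _
        rw [hA _ t ht]; simp
      mul_smul := fun g h u => by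
        obtain ⟨t, ht, rfl⟩ := hπ.surj u
        change A _ _ = A g (A h _)
        rw [hA _ t ht, hA _ t ht, hA _ _ (hTn.conj_mem t ht h)]; simp [mul_assoc]
      smul_zero := fun g => map_zero (A g)
      smul_add := fun g => map_add (A g) }
  have hsm : ∀ g : G, ∀ t ∈ T, g • π t - π t = π ⁅g, t⁆ := fun g t ht => by
    change A g _ - _ = _
    rw [hA g t ht, commutatorElement_def, hπ.map_mul _ (hTn.conj_mem t ht g) _ (inv_mem ht),
      hπ.map_inv' ht, sub_eq_add_neg]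
  have hcT' : ∀ g : G, ∀ t ∈ T, ⁅g, t⁆ ∈ T := fun g t ht =>
    mul_mem (hTn.conj_mem t ht g) (inv_mem ht)
  have hfix : ∀ g : G, ∀ t ∈ T, g • π t = π t ↔ ⁅g, t⁆ ∈ V₀ := fun g t ht => by
    rw [← sub_eq_zero, hsm g t ht, hπ.eq_zero _ (hcT' g t ht)]
  have hW' : ∀ t ∈ T, π t ∈ FixedPoints.addSubgroup G U ↔ t ∈ W := fun t ht => by
    refine ⟨fun h => ⟨ht, hsw fun g => commutator_mem_comm ((hfix g t ht).1 (h g))⟩,
      fun h g => (hfix g t ht).2 (commutator_mem_comm (h.2 g (mem_top g)))⟩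
  refine false_of_action (S := G) Q b hQ (fun w hw => surjective_of_fibers hV2 Q b hQ han hfib hU hw)
    hU (hV' ▸ h2) (fun g u => ?_) (W := FixedPoints.addSubgroup G U) ?_ (fun g u => ?_)
    (fun g w hw => hw g) (M := M) (fun g => ?_) ?_
  · obtain ⟨t, ht, rfl⟩ := hπ.surj u
    change Q (A g _) = _
    have h15 : t * t ∈ V₀ := by rw [hV, ← pow_two, ← pow_mul]; exact h4 t ht
    rw [hA g t ht, hQ1 _ ht, hQ1 _ (hTn.conj_mem t ht g), conj_mul, mem_center_iff.1 (hVc h15) g,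
      mul_inv_cancel_right]
  · have h15 : (FixedPoints.addSubgroup G U).toSubgroup.comap hπ.hom = W.subgroupOf T := by
      ext t
      exact hW' t t.2
    have h16 : Function.Surjective hπ.hom := fun c => by
      obtain ⟨x, hx, e⟩ := hπ.surj c.toAdd
      exact ⟨⟨x, hx⟩, by change Multiplicative.ofAdd (π x) = c; rw [e]; rfl⟩
    rw [← AddSubgroup.index_toSubgroup, ← index_comap_of_surjective _ h16, h15, hV']
    have h17 := (W.subgroupOf T).card_mul_index
    rw [Nat.card_congr (subgroupOfEquivOfLe (inf_le_left : W ≤ T)).toEquiv, hc, h14,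
      pow_succ _ 2] at h17
    exact Nat.eq_of_mul_eq_mul_left (by positivity) h17
  · obtain ⟨t, ht, rfl⟩ := hπ.surj u
    rw [hsm g t ht, hW' _ (hcT' g t ht)]
    exact commutator_mem_comm ((h13.ge ht).2 g (mem_top g))
  · refine ⟨fun h u => ?_, fun h t ht => (hfix g t ht).1 (h _)⟩
    obtain ⟨t, ht, rfl⟩ := hπ.surj u
    exact (hfix g t ht).2 (h t ht)
  · have h15 : M < ⊤ := lt_top_iff_ne_top.2 fun e => hcon fun g t ht => (e.ge (mem_top g)) t ht
    have h16 := card_lt_of_lt h15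
    rw [he, hf, Nat.pow_lt_pow_iff_right hq] at h16
    have h17 := M.card_mul_index
    obtain ⟨k, rfl⟩ := Nat.exists_eq_add_of_lt h16
    rw [← card_top (G := G), he, hf, add_assoc, pow_add] at h17
    rw [Nat.eq_of_mul_eq_mul_left (by positivity) h17, hV', pow_succ]
    exact Nat.le_mul_of_pos_left _ (by positivity)

/-- An abelian `2`-group whose automorphisms are transitive on the involutions is homocyclic. -/
theorem homocyclic_of_transitive [Finite G] (hG : IsPGroup 2 G) (hab : IsMulCommutative G)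
    (htrans : ∀ x y : G, x ≠ 1 → x ^ 2 = 1 → y ≠ 1 → y ^ 2 = 1 → ∃ a : MulAut G, a x = y) :
    ∃ m r : ℕ, Nonempty (G ≃* (Fin r → Multiplicative (ZMod (2 ^ m)))) := by
  classical
  letI : CommGroup G := { (inferInstance : Group G) with mul_comm := hab.1.1 }
  obtain ⟨ι, _, n, hn, ⟨e⟩⟩ := CommGroup.equiv_prod_multiplicative_zmod_of_finite G
  have h1 : ∀ i, ∃ k, n i = 2 ^ (k + 1) := by
    intro i
    obtain ⟨k, hk⟩ := hG (e.symm (Pi.mulSingle i (Multiplicative.ofAdd 1)))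
    rw [← map_pow, MulEquiv.map_eq_one_iff] at hk
    have h2 := congrFun hk i
    rw [Pi.pow_apply, Pi.mulSingle_eq_same, ← ofAdd_nsmul, Pi.one_apply, ofAdd_eq_one, nsmul_one,
      ZMod.natCast_eq_zero_iff] at h2
    obtain ⟨j, -, hj⟩ := (Nat.dvd_prime_pow Nat.prime_two).1 h2
    rcases j with _ | j
    · have := hn i; omega
    · exact ⟨j, hj⟩
  choose k hk using h1
  obtain rfl : n = fun i => 2 ^ (k i + 1) := funext hk
  let g : ι → G := fun i => e.symm (Pi.mulSingle i (Multiplicative.ofAdd 1))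
  have h2 : ∀ i j (x : G), k i < j → e (x ^ 2 ^ j) i = 1 := by
    intro i j x hj
    rw [map_pow, Pi.pow_apply, ← ofAdd_toAdd (e x i), ← ofAdd_nsmul, ofAdd_eq_one, nsmul_eq_mul,
      (ZMod.natCast_eq_zero_iff _ _).2 (pow_dvd_pow 2 hj), zero_mul]
  have h3 : ∀ i, e (g i ^ 2 ^ k i) i ≠ 1 := by
    intro i h
    rw [map_pow, Pi.pow_apply, MulEquiv.apply_symm_apply, Pi.mulSingle_eq_same, ← ofAdd_nsmul,
      ofAdd_eq_one, nsmul_one, ZMod.natCast_eq_zero_iff,
      Nat.pow_dvd_pow_iff_le_right one_lt_two] at h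
    omega
  have h4 : ∀ i, (g i ^ 2 ^ k i) ^ 2 = 1 := by
    intro i
    apply e.injective
    ext1 j
    by_cases hj : j = i
    · rw [hj, ← pow_mul, ← pow_succ, h2 _ _ _ (Nat.lt_succ_self _), map_one, Pi.one_apply]
    · simp [g, Pi.mulSingle_eq_of_ne hj]
  have h5 : ∀ i j, k j ≤ k i := by
    intro i j
    by_contra h
    obtain ⟨a, ha⟩ := htrans _ _ (fun h => h3 j (by rw [h, map_one, Pi.one_apply])) (h4 j)
      (fun h => h3 i (by rw [h, map_one, Pi.one_apply])) (h4 i)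
    exact h3 i (by rw [← ha, map_pow a, h2 _ _ _ (not_le.1 h)])
  obtain ⟨m, hm⟩ : ∃ m, k = fun _ => m := by
    rcases isEmpty_or_nonempty ι with h | ⟨⟨i⟩⟩
    · exact ⟨0, funext fun i => isEmptyElim i⟩
    · exact ⟨k i, funext fun j => le_antisymm (h5 i j) (h5 j i)⟩
  subst hm
  exact ⟨m + 1, Fintype.card ι,
    ⟨e.trans (MulEquiv.arrowCongr (Fintype.equivFin ι) (MulEquiv.refl _))⟩⟩

/-- If the involutions of a Sylow `2`-subgroup are central in it and conjugate in the group, then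
the normalizer is transitive on them. -/
theorem transInv_normalizer [Finite G] (S : Sylow 2 G)
    (hc : ∀ x ∈ (S : Subgroup G), x ^ 2 = 1 → x ∈ centralizer ((S : Subgroup G) : Set G))
    (hconj : ∀ x y : G, x ≠ 1 → x ^ 2 = 1 → y ≠ 1 → y ^ 2 = 1 → IsConj x y) :
    TransInv (S : Subgroup G).normalizerMonoidHom.range := by
  intro x y h1 h2 h3 h4
  have h2' : (x : G) ^ 2 = 1 := congrArg Subtype.val h2
  have h4' : (y : G) ^ 2 = 1 := congrArg Subtype.val h4
  obtain ⟨g, hg⟩ := isConj_iff.1 (hconj x y (fun e => h1 (Subtype.ext e)) h2'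
    (fun e => h3 (Subtype.ext e)) h4')
  obtain ⟨n, hn, e⟩ := S.conj_eq_normalizer_conj_of_mem_centralizer x g⁻¹ (hc _ x.2 h2')
    (by rw [inv_inv, hg]; exact hc _ y.2 h4')
  refine ⟨_, ⟨⟨n⁻¹, inv_mem hn⟩, rfl⟩, Subtype.ext ?_⟩
  change n⁻¹ * x * n⁻¹⁻¹ = y
  rw [inv_inv, ← e, inv_inv, hg]

theorem thompson_core [Finite G] (hG : IsPSolvable 2 G) (h0 : pPrimeCore 2 G = ⊥)
    (htwo : ∃ x y : G, x ≠ y ∧ x ≠ 1 ∧ x ^ 2 = 1 ∧ y ≠ 1 ∧ y ^ 2 = 1)
    (hconj : ∀ x y : G, x ≠ 1 → x ^ 2 = 1 → y ≠ 1 → y ^ 2 = 1 → IsConj x y) (S : Sylow 2 G) :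
    (S : Subgroup G) = pCore 2 G ∧
      ∀ x : G, x ^ 2 = 1 → x ∈ centralizer ((S : Subgroup G) : Set G) := by
  obtain ⟨x₀, y₀, hxy, hx1, hx2, hy1, hy2⟩ := htwo
  have : Nontrivial G := ⟨x₀, y₀, hxy⟩
  have hct : CharTrans 2 G := by
    intro K hK x hx h1 h2 y hy
    by_cases h3 : y = 1
    · rw [h3]; exact one_mem _
    obtain ⟨g, rfl⟩ := isConj_iff.1 (hconj x y h1 h2 h3 hy)
    exact Subgroup.Normal.conj_mem inferInstance x hx g
  obtain ⟨V, hV1, hV2, hVP, -, -⟩ := hct.exists_omega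
    ((PLocal.IsPSolvable.pCore_ne_bot_or hG).resolve_right (not_not.2 h0))
  have hSN : (S : Subgroup G) ≤ centralizer (V : Set G) := by
    obtain ⟨k, hk⟩ := IsPGroup.iff_card.1 S.isPGroup'
    rw [← relIndex_eq_one]
    exact Nat.eq_one_of_dvd_coprimes ((hct.index_coprime hG hV2).pow_right k)
      (relIndex_dvd_index_of_normal _ _) (hk ▸ relIndex_dvd_card _ _)
  have hc : ∀ x : G, x ^ 2 = 1 → x ∈ centralizer ((S : Subgroup G) : Set G) := fun x hx =>
    le_centralizer_iff.1 hSN ((hV2 x).2 hx)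
  refine ⟨?_, hc⟩
  have hP := Grp.pCore_isPGroup 2 G
  have hPS : pCore 2 G ≤ S := hP.le_sylow_of_normal S
  have hY := transInv_normalizer S (fun x _ => hc x) hconj
  obtain ⟨T, hT1, hT2, hT3, -, hT5⟩ := Grp.CritExp.exists_char_amb hP
  have hTn : T.Normal := normalizer_eq_top_iff.1 (top_le_iff.1 ((normalizer_eq_top _).ge.trans hT2))
  have hcomm := hY.commutator_mem S.isPGroup' (V := V.subgroupOf S) (T := T.subgroupOf S)
    (fun x => by rw [mem_subgroupOf, hV2, Subtype.ext_iff]; rfl)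
    (by
      rw [Nat.card_congr (subgroupOfEquivOfLe (hVP.trans hPS)).toEquiv]
      have := Fintype.ofFinite V
      rw [Nat.card_eq_fintype_card, Fintype.two_lt_card_iff]
      exact ⟨⟨x₀, (hV2 _).2 hx2⟩, ⟨y₀, (hV2 _).2 hy2⟩, 1, by simpa using hxy,
        fun e => hx1 (congrArg Subtype.val e), fun e => hy1 (congrArg Subtype.val e)⟩)
    (by
      rintro _ ⟨n, rfl⟩ t ht
      exact hTn.conj_mem _ ht n)
    (fun t ht => Subtype.ext (hT3 t ht))
  refine le_antisymm (le_trans (b := centralizer (V : Set G) ⊓ PLocal.secStab T V)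
    (fun s hs => ⟨hSN hs, fun t ht => hcomm ⟨s, hs⟩ ⟨t, hPS (hT1 ht)⟩ ht⟩)
    (Grp.le_pCore inferInstance (isPGroup_of_coprime_trivial fun g hg hco => ?_))) hPS
  refine eq_one_of_mem_of_coprime hP (PLocal.centralizer_pCore_le_of_isPSolvable hG h0
    (hT5 g ((normalizer_eq_top _).ge (mem_top g)) hco ?_)) hco
  obtain ⟨m, hm⟩ := exists_pow_eq_self_of_coprime hco.symm
  rw [← hm]
  refine pow_mem (mem_centralizer_iff.2 fun t ht => ?_) m
  have h1 := hg.2 t ht
  have h2 : g * t = g * t * g⁻¹ * t⁻¹ * t * g := by group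
  generalize g * t * g⁻¹ * t⁻¹ = v at h1 h2
  have h3 : v * g = g * v := mem_centralizer_iff.1 hg.1 v h1
  have h4 : v * v = 1 := by rw [← pow_two]; exact (hV2 v).1 h1
  calc t * g ^ 2 = v * v * t * g * g := by rw [h4, pow_two]; group
    _ = v * (g * t) * g := by rw [h2]; group
    _ = g * (v * t * g) := by rw [← mul_assoc v, h3]; group
    _ = g ^ 2 * t := by rw [← h2, pow_two]; group

/-- Thompson's theorem on (`2`-)solvable groups with one class of involutions. -/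
theorem thompson [Finite G] (hG : IsPSolvable 2 G) (S : Sylow 2 G)
    (htwo : ∃ x y : G, x ∈ (S : Subgroup G) ∧ y ∈ (S : Subgroup G) ∧ x ≠ y ∧ x ≠ 1 ∧ x ^ 2 = 1 ∧
      y ≠ 1 ∧ y ^ 2 = 1)
    (hconj : ∀ x y : G, x ≠ 1 → x ^ 2 = 1 → y ≠ 1 → y ^ 2 = 1 → IsConj x y) :
    PLengthLE 2 1 G ∧ TransInv (S : Subgroup G).normalizerMonoidHom.range := by
  obtain ⟨x₀, y₀, hx, hy, hxy, hx1, hx2, hy1, hy2⟩ := htwo
  have hO := Grp.pPrimeCore_coprime 2 G
  let f := QuotientGroup.mk' (pPrimeCore 2 G)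
  have hf : ∀ s ∈ (S : Subgroup G), f s = 1 → s = 1 := fun s hs h =>
    eq_one_of_mem_of_coprime S.isPGroup' hs
      (Grp.orderOf_coprime_of_mem_pPrimeCore ((QuotientGroup.eq_one_iff s).1 h))
  obtain ⟨h1, h2⟩ := thompson_core (PLocal.IsPSolvable.quotient hG _)
    (Grp.pPrimeCore_quotient_pPrimeCore 2 G)
    ⟨f x₀, f y₀, fun e => hxy (mul_inv_eq_one.1 (hf _ (mul_mem hx (inv_mem hy))
      (by rw [map_mul, map_inv, e, mul_inv_cancel]))), fun e => hx1 (hf _ hx e),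
      by rw [← map_pow, hx2, map_one], fun e => hy1 (hf _ hy e), by rw [← map_pow, hy2, map_one]⟩
    (fun x y h1 h2 h3 h4 => by
      obtain ⟨x, hx', rfl⟩ := exists_lift hO h2
      obtain ⟨y, hy', rfl⟩ := exists_lift hO h4
      exact f.map_isConj (hconj x y (fun e => h1 (by rw [e]; rfl)) hx'
        (fun e => h3 (by rw [e]; rfl)) hy'))
    (S.mapSurjective (QuotientGroup.mk'_surjective _))
  refine ⟨PLocal.PLengthLE.of_quotient_coprime _ hO
    (pLengthLE_one_of_index (Grp.pCore_isPGroup 2 _) ?_), transInv_normalizer S ?_ hconj⟩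
  · rw [← h1, Nat.coprime_comm, Nat.prime_two.coprime_iff_not_dvd]
    exact Sylow.not_dvd_index _
  · intro x hx hx2
    rw [mem_centralizer_iff]
    intro s hs
    have h3 := mem_centralizer_iff.1 (h2 (f x) (by rw [← map_pow, hx2, map_one])) (f s) ⟨s, hs, rfl⟩
    exact mul_inv_eq_one.1 (hf _ (mul_mem (mul_mem hs hx) (inv_mem (mul_mem hx hs)))
      (by rw [map_mul, map_inv, map_mul, map_mul, h3, mul_inv_cancel]))

end Cfsg.Agent.Suz.OneClass
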